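import Mathlib
import Groth.Agent.Lib.Helper3.PerfAux

/-!
# Factorisation of an `n`-quasi-isomorphism (helper3, PCoh cluster)
-/

set_option autoImplicit false

open CategoryTheory CategoryTheory.Limits HomologicalComplex

universe v u

namespace Groth.Agent.H3.PCohLib

variable {C : Type u} [Category.{v} C] [Abelian C]

/-- for a short exact sequence of complexes with acyclic cokernel, `f` is a quasi-isomorphism -/
theorem quasiIso_f_of_acyclic_X₃ (S : ShortComplex (CochainComplex C ℤ)) (hS : S.ShortExact)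
    (h : S.X₃.Acyclic) : QuasiIso S.f := by
  rw [quasiIso_iff]
  intro i
  rw [quasiIsoAt_iff_isIso_homologyMap]
  have hz : ∀ j, IsZero (S.X₃.homology j) := fun j => (exactAt_iff_isZero_homology _ _).mp (h j)
  have h1 : Epi (homologyMap S.f i) :=
    (hS.homology_exact₂ i).epi_f ((hz i).eq_of_tgt _ _)
  have h2 : Mono (homologyMap S.f i) :=
    (hS.homology_exact₁ (i - 1) i (by simp)).mono_g ((hz (i - 1)).eq_of_src _ _)
  exact isIso_of_mono_of_epi _

/-- for a short exact sequence of complexes with acyclic kernel, `g` is a quasi-isomorphism -/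
theorem quasiIso_g_of_acyclic_X₁ (S : ShortComplex (CochainComplex C ℤ)) (hS : S.ShortExact)
    (h : S.X₁.Acyclic) : QuasiIso S.g := by
  rw [quasiIso_iff]
  intro i
  rw [quasiIsoAt_iff_isIso_homologyMap]
  have hz : ∀ j, IsZero (S.X₁.homology j) := fun j => (exactAt_iff_isZero_homology _ _).mp (h j)
  have h1 : Mono (homologyMap S.g i) :=
    (hS.homology_exact₂ i).mono_g ((hz i).eq_of_src _ _)
  have h2 : Epi (homologyMap S.g i) :=
    (hS.homology_exact₃ i (i + 1) (by simp)).epi_f ((hz (i + 1)).eq_of_tgt _ _)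
  exact isIso_of_mono_of_epi _


/-- factorisation of an `n`-quasi-isomorphism, degreewise monomorphism case -/
theorem factor_of_mono (n : ℤ) (E F : CochainComplex C ℤ) (u : E ⟶ F) [Mono u]
    (hiso : ∀ i : ℤ, n < i → IsIso (homologyMap u i)) (hepi : Epi (homologyMap u n)) :
    ∃ (E' : CochainComplex C ℤ) (v : E ⟶ E') (u' : E' ⟶ F), v ≫ u' = u ∧ QuasiIso u' ∧
      (∀ i : ℤ, Mono (v.f i)) ∧ (∀ i : ℤ, n ≤ i → IsIso (v.f i)) := by
  let S₀ : ShortComplex (CochainComplex C ℤ) :=
    ShortComplex.mk u (cokernel.π u) (cokernel.condition u)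
  have hS₀ : S₀.ShortExact :=
    { exact := ShortComplex.exact_cokernel u
      mono_f := (inferInstance : Mono u)
      epi_g := (inferInstance : Epi (cokernel.π u)) }
  have hG : ∀ i, n ≤ i → (cokernel u).ExactAt i := by
    intro i hi
    refine hS₀.exactAt_X₃ i ?_ ?_
    · rcases eq_or_lt_of_le hi with rfl | h
      · exact hepi
      · have := hiso i h
        show Epi (homologyMap u i)
        infer_instance
    · intro j hij
      have hj : n < j := by
        have : i + 1 = j := hij
        omega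
      have := hiso j hj
      show Mono (homologyMap u j)
      infer_instance
  haveI : (cokernel u).IsLE (n - 1) := by
    rw [CochainComplex.isLE_iff]
    intro i hi
    exact hG i (by omega)
  let T := (cokernel u).shortComplexTruncLE (n - 1)
  have hT : T.ShortExact := (cokernel u).shortComplexTruncLE_shortExact (n - 1)
  have hTf : QuasiIso T.f := (inferInstance : QuasiIso ((cokernel u).ιTruncLE (n - 1)))
  have hG' : T.X₃.Acyclic := hT.acyclic_X₃ hTf
  let p : F ⟶ T.X₃ := cokernel.π u ≫ T.g
  haveI : Epi p := epi_comp' (inferInstance : Epi (cokernel.π u)) hT.epi_g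
  let S₁ : ShortComplex (CochainComplex C ℤ) :=
    ShortComplex.mk (kernel.ι p) p (kernel.condition p)
  have hS₁ : S₁.ShortExact :=
    { exact := ShortComplex.exact_kernel p
      mono_f := (inferInstance : Mono (kernel.ι p))
      epi_g := (inferInstance : Epi p) }
  have hup : u ≫ p = 0 := by
    simp only [p, ← Category.assoc, cokernel.condition, zero_comp]
  have hfac : kernel.lift p u hup ≫ kernel.ι p = u := kernel.lift_ι _ _ _
  haveI : Mono (kernel.lift p u hup) := mono_of_mono_fac hfac
  refine ⟨kernel p, kernel.lift p u hup, kernel.ι p, hfac,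
    quasiIso_f_of_acyclic_X₃ S₁ hS₁ hG', fun i => inferInstance, ?_⟩
  intro i hi
  -- `T.g` is an isomorphism in degree `i`
  have hTi : (T.map (eval C _ i)).ShortExact := hT.map_of_exact (eval C _ i)
  have hz : IsZero ((T.map (eval C _ i)).X₁) := by
    show IsZero (((cokernel u).truncLE (n - 1)).X i)
    exact CochainComplex.isZero_of_isStrictlyLE _ (n - 1) i (by omega)
  haveI hgi : IsIso (T.g.f i) := hTi.isIso_g_iff.mpr hz
  -- degreewise exactness of `S₀`
  have hS₀i : (S₀.map (eval C _ i)).ShortExact := hS₀.map_of_exact (eval C _ i)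
  -- lift `kernel.ι p` through `u` in degree `i`
  have h1 : (kernel.ι p).f i ≫ (cokernel.π u).f i = 0 := by
    have h2 : (kernel.ι p).f i ≫ p.f i = 0 := by
      rw [← comp_f, kernel.condition, zero_f]
    have h3 : p.f i = (cokernel.π u).f i ≫ T.g.f i := rfl
    rw [h3, ← Category.assoc] at h2
    exact (cancel_mono (T.g.f i)).mp (h2.trans zero_comp.symm)
  haveI : Mono (S₀.map (eval C _ i)).f := hS₀i.mono_f
  let y : (kernel p).X i ⟶ E.X i := hS₀i.exact.lift ((kernel.ι p).f i) h1
  have hy : y ≫ u.f i = (kernel.ι p).f i := hS₀i.exact.lift_f _ _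
  have hsec : y ≫ (kernel.lift p u hup).f i = 𝟙 _ := by
    haveI : Mono ((kernel.ι p).f i) := inferInstance
    rw [← cancel_mono ((kernel.ι p).f i), Category.assoc, ← comp_f, hfac, hy, Category.id_comp]
  haveI : Mono ((kernel.lift p u hup).f i) := inferInstance
  haveI : IsSplitEpi ((kernel.lift p u hup).f i) := IsSplitEpi.mk' ⟨y, hsec⟩
  exact isIso_of_mono_of_isSplitEpi _


open CochainComplex in
instance mono_inr {K L : CochainComplex C ℤ} (φ : K ⟶ L) : Mono (mappingCone.inr φ) := by
  apply mono_of_mono_f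
  intro i
  exact mono_of_mono_fac (mappingCone.inr_f_snd_v φ i)

/-- the mapping cone of the identity is acyclic -/
theorem acyclic_mappingCone_id (E : CochainComplex C ℤ) :
    (CochainComplex.mappingCone (𝟙 E)).Acyclic := by
  letI : HasDerivedCategory.{max u v} C := HasDerivedCategory.standard C
  intro i
  rw [exactAt_iff_isZero_homology]
  exact Groth.Agent.H3.PerfAux.mappingCone_acyclic_of_quasiIso (𝟙 E) i

/-- **Factorisation of an `n`-quasi-isomorphism** (S5600). -/
theorem factor (n : ℤ) (E F : CochainComplex C ℤ) (u : E ⟶ F)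
    (hiso : ∀ i : ℤ, n < i → IsIso (homologyMap u i)) (hepi : Epi (homologyMap u n)) :
    ∃ (E' : CochainComplex C ℤ) (v : E ⟶ E') (u' : E' ⟶ F), v ≫ u' = u ∧ QuasiIso u' ∧
      (∀ i : ℤ, Mono (v.f i)) ∧ (∀ i : ℤ, n ≤ i → IsIso (v.f i)) := by
  set K := CochainComplex.mappingCone (𝟙 E) with hK
  let ũ : E ⟶ F ⊞ K := biprod.lift u (CochainComplex.mappingCone.inr (𝟙 E))
  have hũ1 : ũ ≫ biprod.fst = u := biprod.lift_fst _ _
  have hũ2 : ũ ≫ biprod.snd = CochainComplex.mappingCone.inr (𝟙 E) := biprod.lift_snd _ _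
  haveI : Mono ũ := mono_of_mono_fac hũ2
  -- `biprod.fst` is a quasi-isomorphism
  let S : ShortComplex (CochainComplex C ℤ) :=
    ShortComplex.mk (biprod.inr : K ⟶ F ⊞ K) (biprod.fst : F ⊞ K ⟶ F) biprod.inr_fst
  have hS : S.ShortExact :=
    { exact := ShortComplex.exact_of_f_is_kernel _ (biprod.isKernelFstKernelFork F K)
      mono_f := (inferInstance : Mono (biprod.inr : K ⟶ F ⊞ K))
      epi_g := (inferInstance : Epi (biprod.fst : F ⊞ K ⟶ F)) }
  have hfst : QuasiIso (biprod.fst : F ⊞ K ⟶ F) :=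
    quasiIso_g_of_acyclic_X₁ S hS (acyclic_mappingCone_id E)
  have hfsti : ∀ i, IsIso (homologyMap (biprod.fst : F ⊞ K ⟶ F) i) := fun i => by
    rw [← quasiIsoAt_iff_isIso_homologyMap]
    infer_instance
  have hcomp : ∀ i, homologyMap ũ i ≫ homologyMap (biprod.fst : F ⊞ K ⟶ F) i = homologyMap u i := by
    intro i
    rw [← homologyMap_comp, hũ1]
  have hiso' : ∀ i : ℤ, n < i → IsIso (homologyMap ũ i) := by
    intro i hi
    have h1 := hiso i hi
    have h2 := hfsti i
    rw [← hcomp i] at h1
    exact IsIso.of_isIso_comp_right _ (homologyMap (biprod.fst : F ⊞ K ⟶ F) i)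
  have hepi' : Epi (homologyMap ũ n) := by
    have := hfsti n
    have h1 : homologyMap ũ n = homologyMap u n ≫ inv (homologyMap (biprod.fst : F ⊞ K ⟶ F) n) := by
      rw [← hcomp n, Category.assoc, IsIso.hom_inv_id, Category.comp_id]
    rw [h1]
    infer_instance
  obtain ⟨E', v, u', hfac, hqi, hmono, hisov⟩ := factor_of_mono n E (F ⊞ K) ũ hiso' hepi'
  refine ⟨E', v, u' ≫ biprod.fst, ?_, ?_, hmono, hisov⟩
  · rw [← Category.assoc, hfac, hũ1]
  · exact quasiIso_comp _ _

end Groth.Agent.H3.PCohLib
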