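import Mathlib
import Groth.Prelude.Def_PCoh

set_option autoImplicit false

open CategoryTheory CategoryTheory.Limits HomologicalComplex CochainComplex HomComplex

universe v u

namespace Groth.Agent.H3.PCohLib

variable {C : Type u} [Category.{v} C] [Abelian C]

theorem up_next (n : ℤ) : (ComplexShape.up ℤ).next n = n + 1 := by simp
theorem up_prev (n : ℤ) : (ComplexShape.up ℤ).prev n = n - 1 := by simp

/-- every cycle is, up to refinements, a multiple of `c` plus a boundary, if `c` generates the homology -/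
theorem cycle_decomp (M : CochainComplex C ℤ) (n : ℤ) {X : C} (c : X ⟶ M.X n)
    (hc : c ≫ M.d n (n + 1) = 0)
    (hepi : Epi (M.liftCycles c (n + 1) (up_next n) hc ≫ M.homologyπ n))
    {A : C} (m : A ⟶ M.X n) (hm : m ≫ M.d n (n + 1) = 0) :
    ∃ (A' : C) (π : A' ⟶ A) (_ : Epi π) (x : A' ⟶ X) (w : A' ⟶ M.X (n - 1)),
      π ≫ m = x ≫ c + w ≫ M.d (n - 1) n := by
  obtain ⟨A₁, π₁, hπ₁, x, hx⟩ := surjective_up_to_refinements_of_epi
    (M.liftCycles c (n + 1) (up_next n) hc ≫ M.homologyπ n)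
    (M.liftCycles m (n + 1) (up_next n) hm ≫ M.homologyπ n)
  rw [← Category.assoc, ← Category.assoc, M.comp_liftCycles, M.comp_liftCycles,
    M.liftCycles_comp_homologyπ_eq_iff_up_to_refinements (n - 1) n (n + 1) (up_prev n) (up_next n)] at hx
  obtain ⟨A₂, π₂, hπ₂, w, hw⟩ := hx
  refine ⟨A₂, π₂ ≫ π₁, epi_comp _ _, π₂ ≫ x, w, ?_⟩
  simpa using hw

section

variable {E S : CochainComplex C ℤ} (φ : S ⟶ E)

theorem mono_inr_f (i : ℤ) : Mono ((mappingCone.inr φ).f i) :=
  mono_of_mono_fac (mappingCone.inr_f_snd_v φ i)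

theorem isIso_inr_f (i : ℤ) (hi : IsZero (S.X (i + 1))) : IsIso ((mappingCone.inr φ).f i) := by
  refine ⟨(mappingCone.snd φ).v i i (add_zero i), mappingCone.inr_f_snd_v φ i, ?_⟩
  have := mappingCone.id_X φ i (i + 1) rfl
  rw [hi.eq_of_tgt ((mappingCone.fst φ).1.v i (i + 1) rfl) 0, zero_comp, zero_add] at this
  exact this

theorem isIso_homologyMap_inr (i : ℤ) (h0 : IsZero (S.X i)) (h1 : IsZero (S.X (i + 1))) :
    IsIso (homologyMap (mappingCone.inr φ) i) := by
  rw [← quasiIsoAt_iff_isIso_homologyMap,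
    quasiIsoAt_iff' _ (i - 1) i (i + 1) (by simp) (by simp)]
  have : IsIso ((mappingCone.inr φ).f (i - 1)) :=
    isIso_inr_f φ (i - 1) (by rwa [sub_add_cancel])
  have := isIso_inr_f φ i h1
  have := mono_inr_f φ (i + 1)
  have : Epi ((shortComplexFunctor' C (ComplexShape.up ℤ) (i - 1) i (i + 1)).map
    (mappingCone.inr φ)).τ₁ := by change Epi ((mappingCone.inr φ).f (i - 1)); infer_instance
  have : IsIso ((shortComplexFunctor' C (ComplexShape.up ℤ) (i - 1) i (i + 1)).map
    (mappingCone.inr φ)).τ₂ := by change IsIso ((mappingCone.inr φ).f i); infer_instance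
  have : Mono ((shortComplexFunctor' C (ComplexShape.up ℤ) (i - 1) i (i + 1)).map
    (mappingCone.inr φ)).τ₃ := by change Mono ((mappingCone.inr φ).f (i + 1)); infer_instance
  exact ShortComplex.quasiIso_of_epi_of_isIso_of_mono _

/-- the first projection is a cokernel of `inr` -/
noncomputable def isColimitInr (i j : ℤ) (hij : i + 1 = j) :
    IsColimit (CokernelCofork.ofπ ((mappingCone.fst φ).1.v i j hij)
      (mappingCone.inr_f_fst_v φ i j hij)) :=
  CokernelCofork.IsColimit.ofπ _ _ (fun x _ => (mappingCone.inl φ).v j i (by lia) ≫ x)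
    (fun x hx => by
      have := mappingCone.id_X φ i j hij
      have h2 := congr($this ≫ x)
      simp only [Preadditive.add_comp, Category.assoc, hx, comp_zero, add_zero,
        Category.id_comp] at h2
      exact h2)
    (fun x _ b hb => by rw [← hb, mappingCone.inl_v_fst_v_assoc])

/-- the cokernel of `inr` in degree `i` is the source in degree `i + 1` -/
noncomputable def cokernelInrIso (i j : ℤ) (hij : i + 1 = j) :
    cokernel ((mappingCone.inr φ).f i) ≅ S.X j :=
  (colimit.isColimit _).coconePointUniqueUpToIso (isColimitInr φ i j hij)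

end


section core

variable (n : ℤ) {E F S : CochainComplex C ℤ} (u : E ⟶ F) (φ : S ⟶ E)
    (hS : ∀ i, i ≠ n + 1 → IsZero (S.X i))
    (γ : Cochain S F (-1)) (eq : δ (-1) 0 γ = Cochain.ofHom (φ ≫ u))
    (c : S.X (n + 1) ⟶ (mappingCone u).X n)
    (hc1 : c ≫ (mappingCone.fst u).1.v n (n + 1) rfl = φ.f (n + 1))
    (hc2 : c ≫ (mappingCone.snd u).v n n (add_zero n) = - γ.v (n + 1) n (by lia))
    (hc : c ≫ (mappingCone u).d n (n + 1) = 0)
    (hepi : Epi ((mappingCone u).liftCycles c (n + 1) (up_next n) hc ≫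
      (mappingCone u).homologyπ n))

include hS hc1 hepi in
theorem modif_mono : Mono (homologyMap (mappingCone.desc φ γ u eq) (n + 1)) := by
  rw [mono_homologyMap_iff_up_to_refinements _ n (n + 1) (n + 1 + 1) (by simp) (by simp)]
  intro A x₂ hx₂ y₁ hy₁
  have hx0 : x₂ ≫ (mappingCone.fst φ).1.v (n + 1) (n + 1 + 1) rfl = 0 :=
    (hS (n + 1 + 1) (by lia)).eq_of_tgt _ _
  have he : ∃ e, e = x₂ ≫ (mappingCone.snd φ).v (n + 1) (n + 1) (add_zero _) := ⟨_, rfl⟩
  obtain ⟨e, he⟩ := he
  have hed : e ≫ E.d (n + 1) (n + 1 + 1) = 0 := by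
    have := congr($hx₂ ≫ (mappingCone.snd φ).v (n + 1 + 1) (n + 1 + 1) (add_zero _))
    rw [Category.assoc, mappingCone.d_snd_v φ (n + 1) (n + 1 + 1) rfl] at this
    simp only [Preadditive.comp_add, zero_comp] at this
    rw [← Category.assoc, hx0, zero_comp, zero_add, ← Category.assoc, ← he] at this
    exact this
  have heu : e ≫ u.f (n + 1) = y₁ ≫ F.d n (n + 1) := by
    rw [← hy₁, mappingCone.desc_f φ γ u eq (n + 1) (n + 1 + 1) rfl]
    simp only [Preadditive.comp_add]
    rw [← Category.assoc, hx0, zero_comp, zero_add, ← Category.assoc, ← he]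
  let m : A ⟶ (mappingCone u).X n :=
    e ≫ (mappingCone.inl u).v (n + 1) n (by lia) - y₁ ≫ (mappingCone.inr u).f n
  have hm1 : m ≫ (mappingCone.fst u).1.v n (n + 1) rfl = e := by simp [m]
  have hm2 : m ≫ (mappingCone.snd u).v n n (add_zero n) = - y₁ := by simp [m]
  have hm : m ≫ (mappingCone u).d n (n + 1) = 0 := by
    apply mappingCone.ext_to u (n + 1) (n + 1 + 1) rfl
    · rw [Category.assoc, mappingCone.d_fst_v u n (n + 1) (n + 1 + 1) rfl rfl]
      simp only [Preadditive.comp_neg, zero_comp]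
      rw [← Category.assoc, hm1, hed, neg_zero]
    · rw [Category.assoc, mappingCone.d_snd_v u n (n + 1) rfl]
      simp only [Preadditive.comp_add, zero_comp]
      rw [← Category.assoc, hm1, ← Category.assoc, hm2, heu]
      simp
  obtain ⟨A', π, hπ, x, w, hw⟩ := cycle_decomp _ n c hc hepi m hm
  refine ⟨A', π, hπ, x ≫ (mappingCone.inl φ).v (n + 1) n (by lia) -
    (w ≫ (mappingCone.fst u).1.v (n - 1) n (by lia)) ≫ (mappingCone.inr φ).f n, ?_⟩
  apply mappingCone.ext_to φ (n + 1) (n + 1 + 1) rfl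
  · exact (hS (n + 1 + 1) (by lia)).eq_of_tgt _ _
  · have h1 := congr($hw ≫ (mappingCone.fst u).1.v n (n + 1) rfl)
    simp only [Category.assoc, Preadditive.add_comp, hm1, hc1,
      mappingCone.d_fst_v u (n - 1) n (n + 1) (by lia) rfl] at h1
    rw [Category.assoc, ← he, h1, Category.assoc, mappingCone.d_snd_v φ n (n + 1) rfl]
    simp

include hS hc1 hc2 hepi in
theorem modif_epi : Epi (homologyMap (mappingCone.desc φ γ u eq) n) := by
  rw [epi_homologyMap_iff_up_to_refinements _ (n - 1) n (n + 1) (by simp) (by simp)]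
  intro A y₂ hy₂
  let m : A ⟶ (mappingCone u).X n := y₂ ≫ (mappingCone.inr u).f n
  have hm1 : m ≫ (mappingCone.fst u).1.v n (n + 1) rfl = 0 := by simp [m]
  have hm2 : m ≫ (mappingCone.snd u).v n n (add_zero n) = y₂ := by simp [m]
  have hm : m ≫ (mappingCone u).d n (n + 1) = 0 := by
    simp only [m, Category.assoc, mappingCone.inr_f_d, reassoc_of% hy₂, zero_comp]
  obtain ⟨A', π, hπ, x, w, hw⟩ := cycle_decomp _ n c hc hepi m hm
  have h1 := congr($hw ≫ (mappingCone.fst u).1.v n (n + 1) rfl)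
  simp only [Category.assoc, Preadditive.add_comp, hm1, hc1, comp_zero,
    mappingCone.d_fst_v u (n - 1) n (n + 1) (by lia) rfl] at h1
  have h2 := congr($hw ≫ (mappingCone.snd u).v n n (add_zero n))
  simp only [Category.assoc, Preadditive.add_comp, hm2, hc2,
    mappingCone.d_snd_v u (n - 1) n (by lia)] at h2
  refine ⟨A', π, hπ, - x ≫ (mappingCone.inl φ).v (n + 1) n (by lia) +
    (w ≫ (mappingCone.fst u).1.v (n - 1) n (by lia)) ≫ (mappingCone.inr φ).f n, ?_,
    w ≫ (mappingCone.snd u).v (n - 1) (n - 1) (add_zero _), ?_⟩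
  · apply mappingCone.ext_to φ (n + 1) (n + 1 + 1) rfl
    · exact (hS (n + 1 + 1) (by lia)).eq_of_tgt _ _
    · rw [Category.assoc, mappingCone.d_snd_v φ n (n + 1) rfl]
      simp only [Preadditive.comp_add, Preadditive.add_comp, Preadditive.neg_comp, Category.assoc,
        mappingCone.inl_v_fst_v_assoc, mappingCone.inr_f_fst_v_assoc, zero_comp, comp_zero,
        mappingCone.inl_v_snd_v_assoc, mappingCone.inr_f_snd_v_assoc, add_zero, zero_add, neg_zero]
      simp only [Preadditive.comp_neg] at h1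
      rw [eq_comm, ← sub_eq_add_neg, sub_eq_zero] at h1
      rw [h1]; simp
  · rw [mappingCone.desc_f φ γ u eq n (n + 1) rfl]
    simp only [Preadditive.comp_add, Preadditive.add_comp, Preadditive.neg_comp, Category.assoc,
        mappingCone.inl_v_fst_v_assoc, mappingCone.inr_f_fst_v_assoc, zero_comp, comp_zero,
        mappingCone.inl_v_snd_v_assoc, mappingCone.inr_f_snd_v_assoc, add_zero, zero_add, neg_zero]
    rw [h2]
    simp only [Preadditive.comp_add, Preadditive.comp_neg, add_assoc]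

end core

/-- lift generators of a finite type homology object to cycles -/
theorem exists_lift_cycles (P : ObjectProperty C) (hql : PCoh.IsQuasiLiftable P)
    (M : CochainComplex C ℤ) (n : ℤ) (h : PCoh.IsOfFiniteType P (M.homology n)) :
    ∃ (X' : C) (z : X' ⟶ M.cycles n), P X' ∧ Epi (z ≫ M.homologyπ n) := by
  obtain ⟨X, π, hX, hπ⟩ := h
  obtain ⟨X', w, hX', hw⟩ := hql _ _ (pullback.fst π (M.homologyπ n)) inferInstance hX
  refine ⟨X', w ≫ pullback.snd _ _, hX', ?_⟩
  rw [Category.assoc, ← pullback.condition, ← Category.assoc]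
  exact epi_comp _ _

/-- the modification lemma, with the auxiliary complex as data -/
theorem modification_aux' (P : ObjectProperty C) [P.IsClosedUnderIsomorphisms]
    (n : ℤ) (E F : CochainComplex C ℤ) (u : E ⟶ F)
    (hiso : ∀ i : ℤ, n + 1 < i → IsIso (homologyMap u i))
    (hepi : Epi (homologyMap u (n + 1)))
    (X' : C) (hX' : P X') (z : X' ⟶ (mappingCone u).cycles n)
    (hz : Epi (z ≫ (mappingCone u).homologyπ n))
    (S : CochainComplex C ℤ) (hS : ∀ i, i ≠ n + 1 → IsZero (S.X i)) (e : S.X (n + 1) ≅ X')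
    (φ : S ⟶ E) (γ : Cochain S F (-1)) (eq : δ (-1) 0 γ = Cochain.ofHom (φ ≫ u))
    (hφ : φ.f (n + 1) = e.hom ≫ z ≫ (mappingCone u).iCycles n ≫
      (mappingCone.fst u).1.v n (n + 1) rfl)
    (hγ : γ.v (n + 1) n (by lia) = - e.hom ≫ z ≫ (mappingCone u).iCycles n ≫
      (mappingCone.snd u).v n n (add_zero n)) :
    ∃ (E' : CochainComplex C ℤ) (v : E ⟶ E') (u' : E' ⟶ F), v ≫ u' = u ∧
      (∀ i : ℤ, Mono (v.f i)) ∧
      (∀ i : ℤ, i ≠ n → IsIso (v.f i)) ∧ P (cokernel (v.f n)) ∧
      (∀ i : ℤ, n < i → IsIso (homologyMap u' i)) ∧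
      Epi (homologyMap u' n) ∧ ∃ X'' : C, P X'' ∧ Nonempty (E'.X n ≅ X'' ⊞ E.X n) := by
  let c : S.X (n + 1) ⟶ (mappingCone u).X n := e.hom ≫ z ≫ (mappingCone u).iCycles n
  have hc1 : c ≫ (mappingCone.fst u).1.v n (n + 1) rfl = φ.f (n + 1) := by
    simp only [c, hφ, Category.assoc]
  have hc2 : c ≫ (mappingCone.snd u).v n n (add_zero n) = - γ.v (n + 1) n (by lia) := by
    simp only [c, hγ, Category.assoc, neg_neg]
  have hc : c ≫ (mappingCone u).d n (n + 1) = 0 := by
    simp only [c, Category.assoc, iCycles_d, comp_zero]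
  have hcz : (mappingCone u).liftCycles c (n + 1) (up_next n) hc = e.hom ≫ z := by
    rw [← cancel_mono ((mappingCone u).iCycles n)]
    simp [c]
  have hepi' : Epi ((mappingCone u).liftCycles c (n + 1) (up_next n) hc ≫
      (mappingCone u).homologyπ n) := by
    rw [hcz, Category.assoc]
    exact epi_comp _ _
  refine ⟨mappingCone φ, mappingCone.inr φ, mappingCone.desc φ γ u eq, mappingCone.inr_desc _ _ _ _,
    fun i => mono_inr_f φ i, fun i hi => isIso_inr_f φ i (hS (i + 1) (by lia)),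
    P.prop_of_iso (cokernelInrIso φ n (n + 1) rfl ≪≫ e).symm hX', ?_,
    modif_epi n u φ hS γ eq c hc1 hc2 hc hepi', X', hX',
    ⟨HomologicalComplex.homotopyCofiber.XIsoBiprod φ n (n + 1) rfl ≪≫
      biprod.mapIso e (Iso.refl _)⟩⟩
  intro i hi
  have hcomp : homologyMap u i =
      homologyMap (mappingCone.inr φ) i ≫ homologyMap (mappingCone.desc φ γ u eq) i := by
    rw [← homologyMap_comp, mappingCone.inr_desc]
  rcases eq_or_lt_of_le (Int.add_one_le_iff.mpr hi) with rfl | hi'
  · have h1 := modif_mono n u φ hS γ eq c hc1 hc hepi'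
    have h2 : Epi (homologyMap (mappingCone.desc φ γ u eq) (n + 1)) := by
      rw [hcomp] at hepi
      exact epi_of_epi (homologyMap (mappingCone.inr φ) (n + 1)) _
    exact isIso_of_mono_of_epi _
  · have h1 := isIso_homologyMap_inr φ i (hS i (by lia)) (hS (i + 1) (by lia))
    have h2 := hiso i hi'
    rw [hcomp] at h2
    exact IsIso.of_isIso_comp_left (homologyMap (mappingCone.inr φ) i) _

/-- the modification lemma, with the extra information that the new term is a direct sum -/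
theorem modification' (P : ObjectProperty C) [P.IsClosedUnderIsomorphisms]
    (hql : PCoh.IsQuasiLiftable P)
    (n : ℤ) (E F : CochainComplex C ℤ) (u : E ⟶ F)
    (hiso : ∀ i : ℤ, n + 1 < i → IsIso (homologyMap u i))
    (hepi : Epi (homologyMap u (n + 1)))
    (hcone : PCoh.IsOfFiniteType P ((mappingCone u).homology n)) :
    ∃ (E' : CochainComplex C ℤ) (v : E ⟶ E') (u' : E' ⟶ F), v ≫ u' = u ∧
      (∀ i : ℤ, Mono (v.f i)) ∧
      (∀ i : ℤ, i ≠ n → IsIso (v.f i)) ∧ P (cokernel (v.f n)) ∧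
      (∀ i : ℤ, n < i → IsIso (homologyMap u' i)) ∧
      Epi (homologyMap u' n) ∧ ∃ X'' : C, P X'' ∧ Nonempty (E'.X n ≅ X'' ⊞ E.X n) := by
  obtain ⟨X', z, hX', hz⟩ := exists_lift_cycles P hql (mappingCone u) n hcone
  obtain ⟨c', hc'def⟩ : ∃ c' : X' ⟶ (mappingCone u).X n, c' = z ≫ (mappingCone u).iCycles n :=
    ⟨_, rfl⟩
  have hc' : c' ≫ (mappingCone u).d n (n + 1) = 0 := by simp [hc'def]
  obtain ⟨α, hαdef⟩ : ∃ α : X' ⟶ E.X (n + 1), α = c' ≫ (mappingCone.fst u).1.v n (n + 1) rfl :=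
    ⟨_, rfl⟩
  obtain ⟨β, hβdef⟩ : ∃ β : X' ⟶ F.X n, β = c' ≫ (mappingCone.snd u).v n n (add_zero n) :=
    ⟨_, rfl⟩
  have hα : α ≫ E.d (n + 1) (n + 1 + 1) = 0 := by
    have := congr($hc' ≫ (mappingCone.fst u).1.v (n + 1) (n + 1 + 1) rfl)
    rw [Category.assoc, mappingCone.d_fst_v u n (n + 1) (n + 1 + 1) rfl rfl] at this
    simpa [hαdef] using this
  have hαβ : α ≫ u.f (n + 1) = - β ≫ F.d n (n + 1) := by
    have := congr($hc' ≫ (mappingCone.snd u).v (n + 1) (n + 1) (add_zero _))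
    rw [Category.assoc, mappingCone.d_snd_v u n (n + 1) rfl] at this
    simp only [Preadditive.comp_add, zero_comp] at this
    rw [← Category.assoc, ← Category.assoc, ← hαdef, ← hβdef] at this
    exact eq_neg_of_add_eq_zero_left this
  have h0 : (n + 1) + 0 = n + 1 := by lia
  have h1 : (n + 1) + (-1) = n := by lia
  refine modification_aux' P n E F u hiso hepi X' hX' z hz
    ((CochainComplex.singleFunctor C (n + 1)).obj X')
    (fun i hi => isZero_single_obj_X (ComplexShape.up ℤ) (n + 1) X' i hi)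
    (singleObjXSelf (ComplexShape.up ℤ) (n + 1) X')
    (Cocycle.homOf (Cocycle.fromSingleMk α h0 (n + 1 + 1) rfl hα))
    (Cochain.fromSingleMk (-β) h1) ?_ ?_ ?_
  · rw [Cochain.δ_fromSingleMk _ _ _ (n + 1) h0, Cochain.ofHom_comp,
      Cocycle.cochain_ofHom_homOf_eq_coe, Cocycle.fromSingleMk_coe,
      ← Cochain.fromSingleMk_postcomp, hαβ, Preadditive.neg_comp]
  · rw [Cocycle.homOf_f, Cocycle.fromSingleMk_coe, Cochain.fromSingleMk_v, hαdef, hc'def,
      Category.assoc]
    rfl
  · rw [Cochain.fromSingleMk_v, hβdef, hc'def, Category.assoc, Preadditive.comp_neg]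
    rfl

/-- the modification lemma -/
theorem modification (P : ObjectProperty C) [P.IsClosedUnderIsomorphisms]
    (hql : PCoh.IsQuasiLiftable P)
    (n : ℤ) (E F : CochainComplex C ℤ) (u : E ⟶ F)
    (hiso : ∀ i : ℤ, n + 1 < i → IsIso (homologyMap u i))
    (hepi : Epi (homologyMap u (n + 1)))
    (hcone : PCoh.IsOfFiniteType P ((mappingCone u).homology n)) :
    ∃ (E' : CochainComplex C ℤ) (v : E ⟶ E') (u' : E' ⟶ F), v ≫ u' = u ∧
      (∀ i : ℤ, Mono (v.f i)) ∧
      (∀ i : ℤ, i ≠ n → IsIso (v.f i)) ∧ P (cokernel (v.f n)) ∧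
      (∀ i : ℤ, n < i → IsIso (homologyMap u' i)) ∧
      Epi (homologyMap u' n) := by
  obtain ⟨E', v, u', h1, h2, h3, h4, h5, h6, -⟩ := modification' P hql n E F u hiso hepi hcone
  exact ⟨E', v, u', h1, h2, h3, h4, h5, h6⟩

end Groth.Agent.H3.PCohLib
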