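import Mathlib
import Groth.Prelude.Def_PCoh
import Groth.Agent.Lib.Helper3.PCoh.Modif
import Groth.Agent.Lib.Helper3.PCoh.Factor
import Groth.Agent.S5602

set_option autoImplicit false

open CategoryTheory CategoryTheory.Limits HomologicalComplex CochainComplex HomComplex ZeroObject

universe v u

namespace Groth.Agent.H3.PCohLib

variable {C : Type u} [Category.{v} C] [Abelian C]

theorem isZero_homology_mappingCone {K L : CochainComplex C ℤ} (f : K ⟶ L) (i : ℤ)
    (h1 : Epi (homologyMap f i)) (h2 : Mono (homologyMap f (i + 1))) :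
    IsZero ((mappingCone f).homology i) := by
  letI := HasDerivedCategory.standard C
  have hT : DerivedCategory.Q.mapTriangle.obj (mappingCone.triangle f) ∈
      Pretriangulated.distinguishedTriangles := by
    rw [DerivedCategory.mem_distTriang_iff]
    exact ⟨_, _, f, ⟨Iso.refl _⟩⟩
  have e3 := CochainComplex.homologyMap_exact₃_of_distTriang _ hT i (i + 1) rfl
  have hδ : homologyδOfTriangle (mappingCone.triangle f) i (i + 1) rfl = 0 := by
    have := CochainComplex.homologyδOfTriangle_homologyMap _ hT i (i + 1) rfl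
    exact (cancel_mono (homologyMap f (i + 1))).1 (this.trans zero_comp.symm)
  have hg : Epi (homologyMap (mappingCone.inr f) i) := e3.epi_f hδ
  have hg0 : homologyMap (mappingCone.inr f) i = 0 := by
    have := CochainComplex.homologyMap_comp_eq_zero_of_distTriang _ hT i
    exact (cancel_epi (homologyMap f i)).1 (this.trans comp_zero.symm)
  exact IsZero.of_epi_eq_zero _ hg0

theorem quasiIso_mappingCone_map {K₁ L₁ K₂ L₂ : CochainComplex C ℤ} (φ₁ : K₁ ⟶ L₁) (φ₂ : K₂ ⟶ L₂)
    (a : K₁ ⟶ K₂) (b : L₁ ⟶ L₂) (comm : φ₁ ≫ b = a ≫ φ₂) [QuasiIso a] [QuasiIso b] :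
    QuasiIso (mappingCone.map φ₁ φ₂ a b comm) := by
  letI := HasDerivedCategory.standard C
  rw [← DerivedCategory.isIso_Q_map_iff_quasiIso]
  have hT₁ : DerivedCategory.Q.mapTriangle.obj (mappingCone.triangle φ₁) ∈
      Pretriangulated.distinguishedTriangles := by
    rw [DerivedCategory.mem_distTriang_iff]
    exact ⟨_, _, φ₁, ⟨Iso.refl _⟩⟩
  have hT₂ : DerivedCategory.Q.mapTriangle.obj (mappingCone.triangle φ₂) ∈
      Pretriangulated.distinguishedTriangles := by
    rw [DerivedCategory.mem_distTriang_iff]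
    exact ⟨_, _, φ₂, ⟨Iso.refl _⟩⟩
  exact Pretriangulated.isIso₃_of_isIso₁₂
    (DerivedCategory.Q.mapTriangle.map (mappingCone.triangleMap φ₁ φ₂ a b comm)) hT₁ hT₂
    (inferInstanceAs (IsIso (DerivedCategory.Q.map a)))
    (inferInstanceAs (IsIso (DerivedCategory.Q.map b)))

theorem isOfFiniteType_of_iso (P : ObjectProperty C) {X Y : C} (e : X ≅ Y)
    (h : PCoh.IsOfFiniteType P X) : PCoh.IsOfFiniteType P Y := by
  obtain ⟨A, π, hA, hπ⟩ := h
  exact ⟨A, π ≫ e.hom, hA, epi_comp _ _⟩

theorem isZero_homology_of_isZero_X (K : CochainComplex C ℤ) (i : ℤ) (h : IsZero (K.X i)) :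
    IsZero (K.homology i) :=
  (exactAt_iff_isZero_homology _ _).mp (ExactAt.of_isZero h)

/-- finite type of the `m`-th cohomology of the cone of an `(m+1)`-quasi-isomorphism from a
strictly perfect complex to a complex quasi-isomorphic to a strictly `n`-pseudo-coherent complex -/
theorem finiteType_cone (P : ObjectProperty C) [P.IsClosedUnderIsomorphisms]
    (hsum : ∀ X Y : C, P X → P Y → P (X ⨯ Y)) (hqs : PCoh.IsQuasiStableUnderKernels P)
    (n : ℤ) {G E F : CochainComplex C ℤ} (hF : PCoh.IsStrictPC P n F) (u : E ⟶ F) [QuasiIso u]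
    (v : G ⟶ E) (hG : ∀ i, P (G.X i)) (hGb : ∃ b : ℤ, ∀ i, b < i → IsZero (G.X i))
    (m : ℤ) (hm : n ≤ m)
    (hiso : ∀ i, m + 1 < i → IsIso (homologyMap v i)) (hepi : Epi (homologyMap v (m + 1))) :
    PCoh.IsOfFiniteType P ((mappingCone v).homology m) := by
  have hq := quasiIso_mappingCone_map v (v ≫ u) (𝟙 G) u (by simp)
  have e : (mappingCone v).homology m ≅ (mappingCone (v ≫ u)).homology m :=
    asIso (homologyMap (mappingCone.map v (v ≫ u) (𝟙 G) u (by simp)) m)
  refine isOfFiniteType_of_iso P e.symm ?_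
  obtain ⟨⟨bF, hbF⟩, hPF⟩ := hF
  obtain ⟨bG, hbG⟩ := hGb
  refine Groth.Agent.S5602.result P hqs m (mappingCone (v ≫ u)) ⟨⟨max bF bG, ?_⟩, ?_⟩ ?_
  · intro i hi
    exact PerfAux.mappingCone_X_isZero _ i (hbG _ (by omega)) (hbF _ (by omega))
  · intro i hi
    exact PerfAux.mappingCone_X_prop P hsum _ i (hG _) (hPF i (by omega))
  · intro i hi
    have hu : ∀ j, IsIso (homologyMap u j) := fun j => inferInstance
    refine isZero_homology_mappingCone (v ≫ u) i ?_ ?_
    · rw [homologyMap_comp]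
      have : Epi (homologyMap v i) := by
        rcases eq_or_lt_of_le (Int.add_one_le_iff.mpr hi) with h | h
        · rw [← h]; exact hepi
        · have := hiso i h; infer_instance
      exact epi_comp _ _
    · rw [homologyMap_comp]
      have := hiso (i + 1) (by omega)
      infer_instance

/-- descending induction building a strictly perfect approximation -/
theorem resolution_aux (P : ObjectProperty C) [P.IsClosedUnderIsomorphisms] [P.ContainsZero]
    (hsum : ∀ X Y : C, P X → P Y → P (X ⨯ Y)) (hqs : PCoh.IsQuasiStableUnderKernels P)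
    (hql : PCoh.IsQuasiLiftable P)
    (n : ℤ) {E F : CochainComplex C ℤ} (hF : PCoh.IsStrictPC P n F) (u : E ⟶ F) [QuasiIso u]
    (b : ℤ) (hEz : ∀ i, b < i → IsZero (E.homology i)) :
    ∀ (k : ℕ) (m : ℤ), m = b + 1 - k → n ≤ m →
      ∃ (G : CochainComplex C ℤ) (v : G ⟶ E), (∀ i, P (G.X i)) ∧ (∀ i, b < i → IsZero (G.X i)) ∧
        (∀ i, i < m → IsZero (G.X i)) ∧ (∀ i, m < i → IsIso (homologyMap v i)) ∧
        Epi (homologyMap v m) := by
  intro k
  induction k with
  | zero =>
    intro m hm _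
    have hz : ∀ i, IsZero ((0 : CochainComplex C ℤ).X i) := fun i =>
      Functor.map_isZero (HomologicalComplex.eval C (ComplexShape.up ℤ) i) (isZero_zero _)
    refine ⟨0, 0, fun i => P.prop_of_isZero (hz i), fun i _ => hz i, fun i _ => hz i, ?_, ?_⟩
    · intro i hi
      have h1 : IsZero ((0 : CochainComplex C ℤ).homology i) :=
        isZero_homology_of_isZero_X _ i (hz i)
      have h2 := hEz i (by simp at hm; omega)
      exact ⟨0, h1.eq_of_src _ _, h2.eq_of_src _ _⟩
    · exact IsZero.epi (hEz m (by simp at hm; omega)) _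
  | succ k ih =>
    intro m hm hnm
    obtain ⟨G, v, hGP, hGb, hGm, hiso, hepi⟩ := ih (m + 1) (by push_cast at hm; omega) (by omega)
    have hcone := finiteType_cone P hsum hqs n hF u v hGP ⟨b, hGb⟩ m hnm hiso hepi
    obtain ⟨G', w, v', hwv, hwmono, hwiso, hcok, hiso', hepi'⟩ :=
      modification P hql m G E v hiso hepi hcone
    have hmb : m ≤ b := by push_cast at hm; omega
    refine ⟨G', v', ?_, ?_, ?_, hiso', hepi'⟩
    · intro i
      by_cases hi : i = m
      · subst hi
        have h0 : w.f i = 0 := (hGm i (by omega)).eq_of_src _ _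
        have := cokernel.π_of_zero h0
        exact P.prop_of_iso (asIso (cokernel.π (w.f i))).symm hcok
      · have := hwiso i hi
        exact P.prop_of_iso (asIso (w.f i)) (hGP i)
    · intro i hi
      have := hwiso i (by omega)
      exact IsZero.of_iso (hGb i hi) (asIso (w.f i)).symm
    · intro i hi
      have := hwiso i (by omega)
      exact IsZero.of_iso (hGm i (by omega)) (asIso (w.f i)).symm

/-- the resolution lemma -/
theorem resolution (P : ObjectProperty C) [P.IsClosedUnderIsomorphisms] [P.ContainsZero]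
    (hsum : ∀ X Y : C, P X → P Y → P (X ⨯ Y)) (hqs : PCoh.IsQuasiStableUnderKernels P)
    (hql : PCoh.IsQuasiLiftable P)
    (n : ℤ) (E F : CochainComplex C ℤ) (hF : PCoh.IsStrictPC P n F) (u : E ⟶ F) (hu : QuasiIso u) :
    ∃ (F' : CochainComplex C ℤ) (v : F' ⟶ E), PCoh.IsStrictPC P n F' ∧ QuasiIso v := by
  obtain ⟨b₀, hb₀⟩ := hF.1
  obtain ⟨b, hb, hnb⟩ : ∃ b : ℤ, (∀ i, b < i → IsZero (F.X i)) ∧ n ≤ b + 1 :=
    ⟨max b₀ n, fun i hi => hb₀ i (by omega), by omega⟩
  have hu : ∀ j, IsIso (homologyMap u j) := fun j => inferInstance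
  have hEz : ∀ i, b < i → IsZero (E.homology i) := fun i hi =>
    IsZero.of_iso (isZero_homology_of_isZero_X F i (hb i hi)) (asIso (homologyMap u i))
  obtain ⟨G, v, hGP, hGb, -, hiso, hepi⟩ :=
    resolution_aux P hsum hqs hql n hF u b hEz (b + 1 - n).toNat n (by omega) le_rfl
  obtain ⟨G', w, v', -, hv', -, hwiso⟩ := factor n G E v hiso hepi
  refine ⟨G', v', ⟨⟨max b n, ?_⟩, ?_⟩, hv'⟩
  · intro i hi
    have := hwiso i (by omega)
    exact IsZero.of_iso (hGb i (by omega)) (asIso (w.f i)).symm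
  · intro i hi
    have := hwiso i hi
    exact P.prop_of_iso (asIso (w.f i)) (hGP i)

end Groth.Agent.H3.PCohLib
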