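import Mathlib
import Groth.Prelude.Def_PCoh
import Groth.Agent.Lib.Helper3.PCoh.Resol

set_option autoImplicit false

open CategoryTheory CategoryTheory.Limits HomologicalComplex CochainComplex HomComplex ZeroObject

universe w v u

namespace Groth.Agent.H3.PCohLib

variable {C : Type u} [Category.{v} C] [Abelian C]

section noD

variable (P : ObjectProperty C)

theorem strictPC_mono {n n' : ℤ} (h : n ≤ n') {E : CochainComplex C ℤ}
    (hE : PCoh.IsStrictPC P n E) : PCoh.IsStrictPC P n' E :=
  ⟨hE.1, fun i hi => hE.2 i (by omega)⟩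

end noD

variable [HasDerivedCategory.{w} C]

/-- `n`-pseudo-coherent objects of the derived category -/
def IsNPC (P : ObjectProperty C) (n : ℤ) (F : DerivedCategory C) : Prop :=
  ∃ E : CochainComplex C ℤ, PCoh.IsStrictPC P n E ∧ Nonempty (DerivedCategory.Q.obj E ≅ F)

section

variable {P : ObjectProperty C}

theorem IsNPC.of_iso {n : ℤ} {F F' : DerivedCategory C} (e : F ≅ F') (h : IsNPC P n F) :
    IsNPC P n F' := by
  obtain ⟨E, hE, ⟨e'⟩⟩ := h
  exact ⟨E, hE, ⟨e' ≪≫ e⟩⟩

theorem IsNPC.mono {n n' : ℤ} (hn : n ≤ n') {F : DerivedCategory C} (h : IsNPC P n F) :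
    IsNPC P n' F := by
  obtain ⟨E, hE, he⟩ := h
  exact ⟨E, strictPC_mono P hn hE, he⟩

end

/-- the comparison isomorphism between homology in `D(C)` and homology of complexes -/
noncomputable def homIso (K : CochainComplex C ℤ) (i : ℤ) :
    (DerivedCategory.homologyFunctor C i).obj (DerivedCategory.Q.obj K) ≅ K.homology i :=
  (DerivedCategory.homologyFunctorFactors C i).app K

theorem homologyMap_eq {K L : CochainComplex C ℤ} (g : K ⟶ L) (i : ℤ) :
    homologyMap g i = (homIso K i).inv ≫
      (DerivedCategory.homologyFunctor C i).map (DerivedCategory.Q.map g) ≫ (homIso L i).hom := by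
  have := DerivedCategory.homologyFunctorFactors_hom_naturality g i
  rw [Iso.eq_inv_comp]
  exact this.symm

theorem map_Q_map_eq {K L : CochainComplex C ℤ} (g : K ⟶ L) (i : ℤ) :
    (DerivedCategory.homologyFunctor C i).map (DerivedCategory.Q.map g) =
      (homIso K i).hom ≫ homologyMap g i ≫ (homIso L i).inv := by
  rw [homologyMap_eq]; simp

theorem isIso_homologyMap_iff {K L : CochainComplex C ℤ} (g : K ⟶ L) (i : ℤ) :
    IsIso (homologyMap g i) ↔
      IsIso ((DerivedCategory.homologyFunctor C i).map (DerivedCategory.Q.map g)) := by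
  constructor
  · intro h; rw [map_Q_map_eq]; infer_instance
  · intro h; rw [homologyMap_eq]; infer_instance

theorem epi_homologyMap_iff {K L : CochainComplex C ℤ} (g : K ⟶ L) (i : ℤ) :
    Epi (homologyMap g i) ↔
      Epi ((DerivedCategory.homologyFunctor C i).map (DerivedCategory.Q.map g)) := by
  constructor
  · intro h; rw [map_Q_map_eq]; infer_instance
  · intro h; rw [homologyMap_eq]; infer_instance

section main

variable (P : ObjectProperty C) [P.IsClosedUnderIsomorphisms] [P.ContainsZero]
  (hsum : ∀ X Y : C, P X → P Y → P (X ⨯ Y))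
  (hqs : PCoh.IsQuasiStableUnderKernels P) (hql : PCoh.IsQuasiLiftable P)

include hsum hqs hql in
/-- a complex which is `n`-pseudo-coherent in `D(C)` receives a quasi-isomorphism from a strictly
`n`-pseudo-coherent complex -/
theorem exists_quasiIso_of_isNPC (n : ℤ) (X : CochainComplex C ℤ)
    (h : IsNPC P n (DerivedCategory.Q.obj X)) :
    ∃ (F' : CochainComplex C ℤ) (v : F' ⟶ X), PCoh.IsStrictPC P n F' ∧ QuasiIso v := by
  obtain ⟨E, hE, ⟨e⟩⟩ := h
  obtain ⟨Z, s, hs, g, hg⟩ := DerivedCategory.right_fac e.hom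
  have hs' : QuasiIso s := (DerivedCategory.isIso_Q_map_iff_quasiIso (φ := s)).1 hs
  have hg' : QuasiIso g := by
    rw [← DerivedCategory.isIso_Q_map_iff_quasiIso]
    have : DerivedCategory.Q.map g = DerivedCategory.Q.map s ≫ e.hom := by rw [hg]; simp
    rw [this]; infer_instance
  obtain ⟨F', v, hF', hv⟩ := resolution P hsum hqs hql n Z E hE s hs'
  exact ⟨F', v ≫ g, hF', inferInstance⟩

/-- the target of an `n`-quasi-isomorphism from a strictly `n`-pseudo-coherent complex is
`n`-pseudo-coherent -/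
theorem isNPC_of_nQuasiIso (n : ℤ) {F' X : CochainComplex C ℤ} (hF' : PCoh.IsStrictPC P n F')
    (g : F' ⟶ X) (hiso : ∀ i : ℤ, n < i → IsIso (homologyMap g i)) (hepi : Epi (homologyMap g n)) :
    IsNPC P n (DerivedCategory.Q.obj X) := by
  obtain ⟨G', w, v', -, hv', -, hwiso⟩ := factor n F' X g hiso hepi
  obtain ⟨⟨b, hb⟩, hP⟩ := hF'
  have : IsIso (DerivedCategory.Q.map v') := by
    rw [DerivedCategory.isIso_Q_map_iff_quasiIso]; exact hv'
  refine ⟨G', ⟨⟨max b n, ?_⟩, ?_⟩, ⟨asIso (DerivedCategory.Q.map v')⟩⟩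
  · intro i hi
    have := hwiso i (by omega)
    exact IsZero.of_iso (hb i (by omega)) (asIso (w.f i)).symm
  · intro i hi
    have := hwiso i hi
    exact P.prop_of_iso (asIso (w.f i)) (hP i hi)

include hqs in
theorem ft_of_isNPC (n : ℤ) (F : DerivedCategory C)
    (hac : ∀ i : ℤ, n < i → IsZero ((DerivedCategory.homologyFunctor C i).obj F))
    (h : IsNPC P n F) :
    PCoh.IsOfFiniteType P ((DerivedCategory.homologyFunctor C n).obj F) := by
  obtain ⟨E, hE, ⟨e⟩⟩ := h
  have hiso : ∀ i, E.homology i ≅ (DerivedCategory.homologyFunctor C i).obj F := fun i =>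
    (homIso E i).symm ≪≫ (DerivedCategory.homologyFunctor C i).mapIso e
  have := Groth.Agent.S5602.result P hqs n E hE (fun i hi => IsZero.of_iso (hac i hi) (hiso i))
  exact isOfFiniteType_of_iso P (hiso n) this

include hql in
theorem isNPC_of_ft (n : ℤ) (F : DerivedCategory C)
    (hac : ∀ i : ℤ, n < i → IsZero ((DerivedCategory.homologyFunctor C i).obj F))
    (h : PCoh.IsOfFiniteType P ((DerivedCategory.homologyFunctor C n).obj F)) :
    IsNPC P n F := by
  let X := DerivedCategory.Q.objPreimage F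
  let eX : DerivedCategory.Q.obj X ≅ F := DerivedCategory.Q.objObjPreimageIso F
  have hiso : ∀ i, X.homology i ≅ (DerivedCategory.homologyFunctor C i).obj F := fun i =>
    (homIso X i).symm ≪≫ (DerivedCategory.homologyFunctor C i).mapIso eX
  have hXz : ∀ i, n < i → IsZero (X.homology i) := fun i hi => IsZero.of_iso (hac i hi) (hiso i)
  have hXn : PCoh.IsOfFiniteType P (X.homology n) := isOfFiniteType_of_iso P (hiso n).symm h
  have hz : ∀ i, IsZero ((0 : CochainComplex C ℤ).X i) := fun i =>
    Functor.map_isZero (HomologicalComplex.eval C (ComplexShape.up ℤ) i) (isZero_zero _)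
  have hz' : ∀ i, IsZero ((0 : CochainComplex C ℤ).homology i) := fun i =>
    isZero_homology_of_isZero_X _ i (hz i)
  have hcone : PCoh.IsOfFiniteType P ((mappingCone (0 : (0 : CochainComplex C ℤ) ⟶ X)).homology n) := by
    have := isIso_homologyMap_inr (0 : (0 : CochainComplex C ℤ) ⟶ X) n (hz _) (hz _)
    exact isOfFiniteType_of_iso P (asIso (homologyMap (mappingCone.inr
      (0 : (0 : CochainComplex C ℤ) ⟶ X)) n)) hXn
  obtain ⟨E', v, u', -, -, hviso, hcok, hiso', hepi'⟩ :=
    modification P hql n 0 X 0 (fun i hi => ⟨0, (hz' i).eq_of_src _ _, (hXz i (by omega)).eq_of_src _ _⟩)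
      (IsZero.epi (hXz _ (by omega)) _) hcone
  have hE' : PCoh.IsStrictPC P n E' := by
    refine ⟨⟨n, fun i hi => ?_⟩, fun i hi => ?_⟩
    · have := hviso i (by omega)
      exact IsZero.of_iso (hz i) (asIso (v.f i)).symm
    · by_cases hin : i = n
      · subst hin
        have h0 : v.f i = 0 := (hz i).eq_of_src _ _
        have := cokernel.π_of_zero h0
        exact P.prop_of_iso (asIso (cokernel.π (v.f i))).symm hcok
      · have := hviso i hin
        exact P.prop_of_isZero (IsZero.of_iso (hz i) (asIso (v.f i)).symm)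
  exact (isNPC_of_nQuasiIso P n hE' u' hiso' hepi').of_iso eX

end main

end Groth.Agent.H3.PCohLib
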