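import Mathlib
import Groth.Prelude.Def_PCoh
import Groth.Agent.Lib.Helper3.PCoh.NPC

set_option autoImplicit false

open CategoryTheory CategoryTheory.Limits HomologicalComplex CochainComplex HomComplex ZeroObject

universe w v u

namespace Groth.Agent.H3.PCohLib

variable {C : Type u} [Category.{v} C] [Abelian C] [HasDerivedCategory.{w} C]

section main

variable (P : ObjectProperty C) [P.IsClosedUnderIsomorphisms] [P.ContainsZero]
  (hsum : ∀ X Y : C, P X → P Y → P (X ⨯ Y))
  (hqs : PCoh.IsQuasiStableUnderKernels P) (hql : PCoh.IsQuasiLiftable P)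

include hsum hqs hql in
/-- a strictly `n`-pseudo-coherent complex, acyclic above `b`, receives an `n`-quasi-isomorphism
from a strictly perfect complex concentrated in `[n, b]` -/
theorem exists_perfect_approx (n : ℤ) (E₀ : CochainComplex C ℤ) (hE₀ : PCoh.IsStrictPC P n E₀)
    (b : ℤ) (hnb : n ≤ b + 1) (hEz : ∀ i, b < i → IsZero (E₀.homology i)) :
    ∃ (G : CochainComplex C ℤ) (v : G ⟶ E₀), (∀ i, P (G.X i)) ∧ (∀ i, b < i → IsZero (G.X i)) ∧
        (∀ i, i < n → IsZero (G.X i)) ∧ (∀ i, n < i → IsIso (homologyMap v i)) ∧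
        Epi (homologyMap v n) :=
  resolution_aux P hsum hqs hql n hE₀ (𝟙 E₀) b hEz (b + 1 - n).toNat n (by omega) le_rfl

include hsum hqs hql in
theorem nIso_of_isNPC (n : ℤ) (F : DerivedCategory C) (h : IsNPC P n F) :
    ∃ (E : CochainComplex C ℤ) (a b : ℤ) (α : DerivedCategory.Q.obj E ⟶ F),
        (∀ i : ℤ, i < a ∨ b < i → IsZero (E.X i)) ∧ (∀ i : ℤ, P (E.X i)) ∧
        (∀ i : ℤ, n < i → IsIso ((DerivedCategory.homologyFunctor C i).map α)) ∧
        Epi ((DerivedCategory.homologyFunctor C n).map α) := by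
  obtain ⟨E₀, hE₀, ⟨e⟩⟩ := h
  obtain ⟨b₀, hb₀⟩ := hE₀.1
  obtain ⟨G, v, hGP, hGb, hGlow, hiso, hepi⟩ := exists_perfect_approx P hsum hqs hql n E₀ hE₀
    (max b₀ n) (by omega) (fun i hi => isZero_homology_of_isZero_X _ i (hb₀ i (by omega)))
  refine ⟨G, n, max b₀ n, DerivedCategory.Q.map v ≫ e.hom, ?_, hGP, ?_, ?_⟩
  · rintro i (hi | hi)
    · exact hGlow i hi
    · exact hGb i hi
  · intro i hi
    rw [Functor.map_comp]
    have := (isIso_homologyMap_iff v i).1 (hiso i hi)
    infer_instance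
  · rw [Functor.map_comp]
    have := (epi_homologyMap_iff v n).1 hepi
    infer_instance

include hsum hqs hql in
theorem isNPC_of_nIso (n : ℤ) (F : DerivedCategory C)
    (h : ∃ (E : CochainComplex C ℤ) (a b : ℤ) (α : DerivedCategory.Q.obj E ⟶ F),
        (∀ i : ℤ, i < a ∨ b < i → IsZero (E.X i)) ∧ (∀ i : ℤ, P (E.X i)) ∧
        (∀ i : ℤ, n < i → IsIso ((DerivedCategory.homologyFunctor C i).map α)) ∧
        Epi ((DerivedCategory.homologyFunctor C n).map α)) : IsNPC P n F := by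
  obtain ⟨E, a, b, α, hz, hP, hiso, hepi⟩ := h
  let X := DerivedCategory.Q.objPreimage F
  let eX : DerivedCategory.Q.obj X ≅ F := DerivedCategory.Q.objObjPreimageIso F
  obtain ⟨Z, s, hs, g, hg⟩ := DerivedCategory.right_fac (α ≫ eX.inv)
  have hEn : PCoh.IsStrictPC P n E := ⟨⟨b, fun i hi => hz i (Or.inr hi)⟩, fun i _ => hP i⟩
  have hZ : IsNPC P n (DerivedCategory.Q.obj Z) := ⟨E, hEn, ⟨(asIso (DerivedCategory.Q.map s)).symm⟩⟩
  obtain ⟨F', v, hF', hv⟩ := exists_quasiIso_of_isNPC P hsum hqs hql n Z hZ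
  have hv' : IsIso (DerivedCategory.Q.map v) := by
    rw [DerivedCategory.isIso_Q_map_iff_quasiIso]; exact hv
  have hQ : DerivedCategory.Q.map (v ≫ g) =
      (DerivedCategory.Q.map v ≫ DerivedCategory.Q.map s) ≫ α ≫ eX.inv := by
    rw [Functor.map_comp, hg]; simp
  refine (isNPC_of_nQuasiIso P n hF' (v ≫ g) ?_ ?_).of_iso eX
  · intro i hi
    rw [isIso_homologyMap_iff, hQ, Functor.map_comp, Functor.map_comp, Functor.map_comp]
    have := hiso i hi
    infer_instance
  · rw [epi_homologyMap_iff, hQ, Functor.map_comp, Functor.map_comp, Functor.map_comp]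
    have : Epi ((DerivedCategory.homologyFunctor C n).map α ≫
        (DerivedCategory.homologyFunctor C n).map eX.inv) := epi_comp _ _
    exact epi_comp _ _

include hsum hqs hql in
/-- an `n`-pseudo-coherent object, acyclic in degrees `≥ m`, is represented by a strictly
`n`-pseudo-coherent complex vanishing in degrees `≥ m` -/
theorem exists_strictPC_bounded (n m : ℤ) (hnm : n < m) (F : DerivedCategory C) (hF : IsNPC P n F)
    (hac : ∀ i : ℤ, m ≤ i → IsZero ((DerivedCategory.homologyFunctor C i).obj F)) :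
    ∃ E : CochainComplex C ℤ, PCoh.IsStrictPC P n E ∧ (∀ i : ℤ, m ≤ i → IsZero (E.X i)) ∧
      Nonempty (DerivedCategory.Q.obj E ≅ F) := by
  obtain ⟨E₀, hE₀, ⟨e⟩⟩ := hF
  have hiso : ∀ i, E₀.homology i ≅ (DerivedCategory.homologyFunctor C i).obj F := fun i =>
    (homIso E₀ i).symm ≪≫ (DerivedCategory.homologyFunctor C i).mapIso e
  obtain ⟨G, v, hGP, hGb, hGlow, hiso', hepi'⟩ := exists_perfect_approx P hsum hqs hql n E₀ hE₀
    (m - 1) (by omega) (fun i hi => IsZero.of_iso (hac i (by omega)) (hiso i))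
  obtain ⟨G', w, v', -, hv', -, hwiso⟩ := factor n G E₀ v hiso' hepi'
  have : IsIso (DerivedCategory.Q.map v') := by
    rw [DerivedCategory.isIso_Q_map_iff_quasiIso]; exact hv'
  refine ⟨G', ⟨⟨m - 1, ?_⟩, ?_⟩, ?_, ⟨asIso (DerivedCategory.Q.map v') ≪≫ e⟩⟩
  · intro i hi
    have := hwiso i (by omega)
    exact IsZero.of_iso (hGb i hi) (asIso (w.f i)).symm
  · intro i hi
    have := hwiso i hi
    exact P.prop_of_iso (asIso (w.f i)) (hGP i)
  · intro i hi
    have := hwiso i (by omega)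
    exact IsZero.of_iso (hGb i (by omega)) (asIso (w.f i)).symm

end main

end Groth.Agent.H3.PCohLib
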