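import Mathlib
import Groth.Prelude.Def_PCoh
import Groth.Agent.Lib.Helper3.PCoh.NPC2

set_option autoImplicit false

open CategoryTheory CategoryTheory.Limits HomologicalComplex CochainComplex HomComplex ZeroObject
open Pretriangulated

universe w v u

namespace Groth.Agent.H3.PCohLib

variable {C : Type u} [Category.{v} C] [Abelian C] [HasDerivedCategory.{w} C]

theorem IsNPC.shift {P : ObjectProperty C} {n : ℤ} {F : DerivedCategory C} (h : IsNPC P n F)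
    (k : ℤ) : IsNPC P (n - k) (F⟦k⟧) := by
  obtain ⟨E, ⟨⟨b, hb⟩, hP⟩, ⟨e⟩⟩ := h
  refine ⟨E⟦k⟧, ⟨⟨b - k, fun i hi => ?_⟩, fun i hi => ?_⟩,
    ⟨(DerivedCategory.Q.commShiftIso k).app E ≪≫ (CategoryTheory.shiftFunctor (DerivedCategory C) k).mapIso e⟩⟩
  · exact hb (i + k) (by omega)
  · exact hP (i + k) (by omega)

section main

variable (P : ObjectProperty C) [P.IsClosedUnderIsomorphisms] [P.ContainsZero]
  (hsum : ∀ X Y : C, P X → P Y → P (X ⨯ Y))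
  (hqs : PCoh.IsQuasiStableUnderKernels P) (hql : PCoh.IsQuasiLiftable P)

include hsum hqs hql in
theorem isNPC_obj₃ (n : ℤ) (T : Triangle (DerivedCategory C)) (hT : T ∈ distTriang _)
    (h₁ : IsNPC P (n + 1) T.obj₁) (h₂ : IsNPC P n T.obj₂) : IsNPC P n T.obj₃ := by
  obtain ⟨E₁, hE₁, ⟨e₁⟩⟩ := h₁
  obtain ⟨E₂, hE₂, ⟨e₂⟩⟩ := h₂
  obtain ⟨Z, s, hs, g, hg⟩ := DerivedCategory.right_fac (e₁.hom ≫ T.mor₁ ≫ e₂.inv)
  have hs' : QuasiIso s := (DerivedCategory.isIso_Q_map_iff_quasiIso (φ := s)).1 hs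
  obtain ⟨E₁', v, hE₁', hv⟩ := resolution P hsum hqs hql (n + 1) Z E₁ hE₁ s hs'
  have hvs : IsIso (DerivedCategory.Q.map (v ≫ s)) := by
    rw [DerivedCategory.isIso_Q_map_iff_quasiIso]; infer_instance
  have hT' : DerivedCategory.Q.mapTriangle.obj (CochainComplex.mappingCone.triangle (v ≫ g)) ∈
      distTriang _ := by
    rw [DerivedCategory.mem_distTriang_iff]
    exact ⟨_, _, v ≫ g, ⟨Iso.refl _⟩⟩
  let evs : DerivedCategory.Q.obj E₁' ≅ DerivedCategory.Q.obj E₁ :=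
    @asIso _ _ _ _ (DerivedCategory.Q.map (v ≫ s)) hvs
  have hevs : evs.hom = DerivedCategory.Q.map (v ≫ s) := rfl
  let iso := isoTriangleOfIso₁₂ _ _ hT' hT (evs ≪≫ e₁) e₂ (by
    change DerivedCategory.Q.map (v ≫ g) ≫ e₂.hom =
      (DerivedCategory.Q.map (v ≫ s) ≫ e₁.hom) ≫ T.mor₁
    have hg2 : DerivedCategory.Q.map g = DerivedCategory.Q.map s ≫ e₁.hom ≫ T.mor₁ ≫ e₂.inv := by
      rw [hg]; simp
    rw [Functor.map_comp, Functor.map_comp, hg2]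
    simp)
  obtain ⟨b₁, hb₁⟩ := hE₁'.1
  obtain ⟨b₂, hb₂⟩ := hE₂.1
  refine ⟨CochainComplex.mappingCone (v ≫ g), ⟨⟨max b₁ b₂, ?_⟩, ?_⟩, ⟨(Triangle.π₃.mapIso iso)⟩⟩
  · intro i hi
    exact PerfAux.mappingCone_X_isZero _ i (hb₁ _ (by omega)) (hb₂ _ (by omega))
  · intro i hi
    exact PerfAux.mappingCone_X_prop P hsum _ i (hE₁'.2 _ (by omega)) (hE₂.2 _ hi)

include hsum hqs hql in
theorem isNPC_obj₂ (n : ℤ) (T : Triangle (DerivedCategory C)) (hT : T ∈ distTriang _)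
    (h₁ : IsNPC P n T.obj₁) (h₃ : IsNPC P n T.obj₃) : IsNPC P n T.obj₂ := by
  have hT' := inv_rot_of_distTriang _ hT
  have h := (h₃.shift (-1)).mono (show n - (-1) ≤ n + 1 by omega)
  exact isNPC_obj₃ P hsum hqs hql n T.invRotate hT' h h₁

include hsum hqs hql in
theorem isNPC_obj₁ (n : ℤ) (T : Triangle (DerivedCategory C)) (hT : T ∈ distTriang _)
    (h₂ : IsNPC P (n + 1) T.obj₂) (h₃ : IsNPC P n T.obj₃) : IsNPC P (n + 1) T.obj₁ := by
  have hT' := rot_of_distTriang _ hT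
  have h : IsNPC P n (T.obj₁⟦(1 : ℤ)⟧) := isNPC_obj₃ P hsum hqs hql n T.rotate hT' h₂ h₃
  have h' := (h.shift (-1)).mono (show n - (-1) ≤ n + 1 by omega)
  exact h'.of_iso ((shiftFunctorCompIsoId (DerivedCategory C) (1 : ℤ) (-1) (by simp)).app T.obj₁)

end main

end Groth.Agent.H3.PCohLib
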