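import Mathlib
import Groth.Prelude.Def_PCoh
import Groth.Agent.Lib.Helper3.PCoh.NPC3

set_option autoImplicit false

open CategoryTheory CategoryTheory.Limits HomologicalComplex CochainComplex HomComplex ZeroObject
open Pretriangulated

universe w v u

namespace Groth.Agent.H3.PCohLib

variable {C : Type u} [Category.{v} C] [Abelian C] [HasDerivedCategory.{w} C]

section main

variable (P : ObjectProperty C) [P.IsClosedUnderIsomorphisms] [P.ContainsZero]
  (hsum : ∀ X Y : C, P X → P Y → P (X ⨯ Y))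
  (hqs : PCoh.IsQuasiStableUnderKernels P) (hql : PCoh.IsQuasiLiftable P)

include hsum hqs hql in
theorem ft_cone_of_isNPC (m : ℤ) {E F : CochainComplex C ℤ} (u : E ⟶ F)
    (hE : PCoh.IsStrictPC P (m + 1) E) (hF : IsNPC P m (DerivedCategory.Q.obj F))
    (hiso : ∀ j, m + 1 < j → IsIso (homologyMap u j)) (hepi : Epi (homologyMap u (m + 1))) :
    PCoh.IsOfFiniteType P ((mappingCone u).homology m) := by
  have hT : DerivedCategory.Q.mapTriangle.obj (CochainComplex.mappingCone.triangle u) ∈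
      distTriang _ := by
    rw [DerivedCategory.mem_distTriang_iff]
    exact ⟨_, _, u, ⟨Iso.refl _⟩⟩
  have h3 : IsNPC P m (DerivedCategory.Q.obj (mappingCone u)) :=
    isNPC_obj₃ P hsum hqs hql m _ hT ⟨E, hE, ⟨Iso.refl _⟩⟩ hF
  have hac : ∀ i : ℤ, m < i → IsZero ((DerivedCategory.homologyFunctor C i).obj
      (DerivedCategory.Q.obj (mappingCone u))) := by
    intro i hi
    refine IsZero.of_iso (isZero_homology_mappingCone u i ?_ ?_) (homIso _ i)
    · rcases eq_or_lt_of_le (Int.add_one_le_iff.mpr hi) with h | h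
      · rw [← h]; exact hepi
      · have := hiso i h; infer_instance
    · have := hiso (i + 1) (by omega); infer_instance
  exact isOfFiniteType_of_iso P (homIso _ m) (ft_of_isNPC P hqs m _ hac h3)

include hsum hqs hql in
theorem factor_strictPC_aux (n i : ℤ) (E F : CochainComplex C ℤ) (hE : PCoh.IsStrictPC P n E)
    (hF : IsNPC P n (DerivedCategory.Q.obj F)) (u : E ⟶ F)
    (hiso : ∀ j : ℤ, i < j → IsIso (homologyMap u j)) (hepi : Epi (homologyMap u i)) :
    ∀ (k : ℕ) (m : ℤ), m = i - k → n ≤ m →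
    ∃ (E' : CochainComplex C ℤ) (v : E ⟶ E') (u' : E' ⟶ F), v ≫ u' = u ∧ PCoh.IsStrictPC P n E' ∧
      (∀ j : ℤ, Mono (v.f j)) ∧ (∀ j : ℤ, i ≤ j → IsIso (v.f j)) ∧
      (∀ j : ℤ, m < j → IsIso (homologyMap u' j)) ∧ Epi (homologyMap u' m) := by
  intro k
  induction k with
  | zero =>
    intro m hm _
    obtain rfl : m = i := by simpa using hm
    exact ⟨E, 𝟙 E, u, Category.id_comp _, hE, fun j => inferInstance, fun j _ => inferInstance,
      hiso, hepi⟩
  | succ k ih =>
    intro m hm hnm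
    obtain ⟨E₁, v₁, u₁, hvu₁, hE₁, hmono₁, hiso₁, hq₁, hepi₁⟩ :=
      ih (m + 1) (by push_cast at hm; omega) (by omega)
    have hcone := ft_cone_of_isNPC P hsum hqs hql m u₁ (strictPC_mono P (by omega) hE₁)
      (hF.mono hnm) hq₁ hepi₁
    obtain ⟨E₂, w, u₂, hwu, hwmono, hwiso, -, hq₂, hepi₂, X'', hX'', ⟨eX⟩⟩ :=
      modification' P hql m E₁ F u₁ hq₁ hepi₁ hcone
    obtain ⟨⟨b, hb⟩, hP₁⟩ := hE₁
    have hmi : m < i := by push_cast at hm; omega
    refine ⟨E₂, v₁ ≫ w, u₂, by rw [Category.assoc, hwu, hvu₁], ⟨⟨max b m, ?_⟩, ?_⟩, ?_, ?_,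
      hq₂, hepi₂⟩
    · intro j hj
      have := hwiso j (by omega)
      exact IsZero.of_iso (hb j (by omega)) (asIso (w.f j)).symm
    · intro j hj
      by_cases hjm : j = m
      · subst hjm
        exact P.prop_of_iso (eX ≪≫ biprod.isoProd _ _).symm (hsum _ _ hX'' (hP₁ j hj))
      · have := hwiso j hjm
        exact P.prop_of_iso (asIso (w.f j)) (hP₁ j hj)
    · intro j
      have := hmono₁ j
      have := hwmono j
      rw [HomologicalComplex.comp_f]
      exact mono_comp _ _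
    · intro j hj
      have := hiso₁ j hj
      have := hwiso j (by omega)
      rw [HomologicalComplex.comp_f]
      infer_instance

include hsum hqs hql in
theorem factor_strictPC (n i : ℤ) (E F : CochainComplex C ℤ) (hE : PCoh.IsStrictPC P n E)
    (hF : IsNPC P n (DerivedCategory.Q.obj F)) (u : E ⟶ F)
    (hiso : ∀ j : ℤ, i < j → IsIso (homologyMap u j)) (hepi : Epi (homologyMap u i)) :
    ∃ (E' : CochainComplex C ℤ) (v : E ⟶ E') (u' : E' ⟶ F), v ≫ u' = u ∧ PCoh.IsStrictPC P n E' ∧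
      QuasiIso u' ∧ (∀ j : ℤ, Mono (v.f j)) ∧ (∀ j : ℤ, i ≤ j → IsIso (v.f j)) := by
  by_cases hin : i < n
  · obtain ⟨E', v, u', hvu, hu', hmono, hviso⟩ := factor i E F u hiso hepi
    obtain ⟨⟨b, hb⟩, hP⟩ := hE
    refine ⟨E', v, u', hvu, ⟨⟨max b i, ?_⟩, ?_⟩, hu', hmono, hviso⟩
    · intro j hj
      have := hviso j (by omega)
      exact IsZero.of_iso (hb j (by omega)) (asIso (v.f j)).symm
    · intro j hj
      have := hviso j (by omega)
      exact P.prop_of_iso (asIso (v.f j)) (hP j hj)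
  · obtain ⟨E₁, v₁, u₁, hvu₁, hE₁, hmono₁, hiso₁, hq₁, hepi₁⟩ :=
      factor_strictPC_aux P hsum hqs hql n i E F hE hF u hiso hepi (i - n).toNat n (by omega) le_rfl
    obtain ⟨E', w, u', hwu, hu', hwmono, hwiso⟩ := factor n E₁ F u₁ hq₁ hepi₁
    obtain ⟨⟨b, hb⟩, hP₁⟩ := hE₁
    refine ⟨E', v₁ ≫ w, u', by rw [Category.assoc, hwu, hvu₁], ⟨⟨max b n, ?_⟩, ?_⟩, hu', ?_, ?_⟩
    · intro j hj
      have := hwiso j (by omega)
      exact IsZero.of_iso (hb j (by omega)) (asIso (w.f j)).symm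
    · intro j hj
      have := hwiso j hj
      exact P.prop_of_iso (asIso (w.f j)) (hP₁ j hj)
    · intro j
      have := hmono₁ j
      have := hwmono j
      rw [HomologicalComplex.comp_f]
      exact mono_comp _ _
    · intro j hj
      have := hiso₁ j hj
      have := hwiso j (by omega)
      rw [HomologicalComplex.comp_f]
      infer_instance

end main

end Groth.Agent.H3.PCohLib
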