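import Mathlib
import Groth.Prelude.Def_PCoh
import Groth.Agent.Lib.Helper3.PCoh.NPC4

set_option autoImplicit false

open CategoryTheory CategoryTheory.Limits HomologicalComplex CochainComplex HomComplex ZeroObject
open Pretriangulated

universe w v u

namespace Groth.Agent.H3.PCohLib

variable {C : Type u} [Category.{v} C] [Abelian C] [HasDerivedCategory.{w} C]

/-- a zero object of `D(C)` is `n`-pseudo-coherent -/
theorem isNPC_of_isZero (P : ObjectProperty C) [P.IsClosedUnderIsomorphisms] [P.ContainsZero] (n : ℤ) {F : DerivedCategory C}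
    (hF : IsZero F) : IsNPC P n F := by
  have hz : ∀ i, IsZero ((0 : CochainComplex C ℤ).X i) := fun i =>
    Functor.map_isZero (HomologicalComplex.eval C (ComplexShape.up ℤ) i) (isZero_zero _)
  refine ⟨0, ⟨⟨0, fun i _ => hz i⟩, fun i _ => P.prop_of_isZero (hz i)⟩, ⟨IsZero.iso ?_ hF⟩⟩
  exact Functor.map_isZero DerivedCategory.Q (isZero_zero _)

/-- a complex concentrated in one degree: pseudo-coherence from that of its unique term -/
theorem isNPC_single (P : ObjectProperty C) (n b : ℤ) (X : C)
    (h : IsNPC P (n - b) ((DerivedCategory.singleFunctor C 0).obj X)) :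
    IsNPC P n (DerivedCategory.Q.obj ((HomologicalComplex.single C (ComplexShape.up ℤ) b).obj X)) := by
  have h1 := (h.shift (-b)).mono (show n - b - (-b) ≤ n by omega)
  exact h1.of_iso (((DerivedCategory.singleFunctors C).shiftIso (-b) b 0 (by simp)).app X)

section main

variable (P : ObjectProperty C) [P.IsClosedUnderIsomorphisms] [P.ContainsZero]
  (hsum : ∀ X Y : C, P X → P Y → P (X ⨯ Y))
  (hqs : PCoh.IsQuasiStableUnderKernels P) (hql : PCoh.IsQuasiLiftable P)

include hsum hqs hql in
theorem isNPC_of_terms_aux (n : ℤ) : ∀ (k : ℕ) (F : CochainComplex C ℤ) (b : ℤ),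
    b < n + k → (∀ i : ℤ, b < i → IsZero (F.X i)) →
    (∀ i : ℤ, n ≤ i → IsNPC P (n - i) ((DerivedCategory.singleFunctor C 0).obj (F.X i))) →
    IsNPC P n (DerivedCategory.Q.obj F) := by
  have triv : ∀ (F : CochainComplex C ℤ) (b : ℤ), b < n → (∀ i : ℤ, b < i → IsZero (F.X i)) →
      IsNPC P n (DerivedCategory.Q.obj F) := fun F b hbn hb =>
    ⟨F, ⟨⟨b, hb⟩, fun i hi => P.prop_of_isZero (hb i (by omega))⟩, ⟨Iso.refl _⟩⟩
  intro k
  induction k with
  | zero => intro F b hbn hb _; exact triv F b (by simpa using hbn) hb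
  | succ k ih =>
    intro F b hbn hb hterms
    by_cases hbn' : b < n
    · exact triv F b hbn' hb
    let ι : (HomologicalComplex.single C (ComplexShape.up ℤ) b).obj (F.X b) ⟶ F :=
      mkHomFromSingle (𝟙 _) (fun k hk => (hb k (by
        have : b + 1 = k := hk
        omega)).eq_of_tgt _ _)
    have hιb : IsIso (ι.f b) := by
      rw [mkHomFromSingle_f]; infer_instance
    have hιmono : Mono ι := by
      apply HomologicalComplex.mono_of_mono_f
      intro i
      by_cases hi : i = b
      · subst hi; infer_instance
      · exact ⟨fun _ _ _ => (isZero_single_obj_X (ComplexShape.up ℤ) b (F.X b) i hi).eq_of_tgt _ _⟩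
    let S : ShortComplex (CochainComplex C ℤ) :=
      ShortComplex.mk ι (cokernel.π ι) (cokernel.condition ι)
    have hS : S.ShortExact :=
      { exact := ShortComplex.exact_cokernel ι
        mono_f := hιmono
        epi_g := (inferInstance : Epi (cokernel.π ι)) }
    have hSi : ∀ i, (S.map (HomologicalComplex.eval C (ComplexShape.up ℤ) i)).ShortExact :=
      fun i => hS.map_of_exact _
    have hKb : IsZero ((cokernel ι).X b) := (hSi b).isIso_f_iff.1 hιb
    have hKi : ∀ i, i ≠ b → IsIso ((cokernel.π ι).f i) := fun i hi =>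
      (hSi i).isIso_g_iff.2 (isZero_single_obj_X (ComplexShape.up ℤ) b (F.X b) i hi)
    have hK : IsNPC P n (DerivedCategory.Q.obj (cokernel ι)) := by
      refine ih (cokernel ι) (b - 1) (by push_cast at hbn; omega) ?_ ?_
      · intro i hi
        by_cases hib : i = b
        · subst hib; exact hKb
        · have := hKi i hib
          exact IsZero.of_iso (hb i (by omega)) (asIso ((cokernel.π ι).f i)).symm
      · intro i hi
        by_cases hib : i = b
        · subst hib
          exact isNPC_of_isZero P _ (Functor.map_isZero _ hKb)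
        · have := hKi i hib
          exact (hterms i hi).of_iso ((DerivedCategory.singleFunctor C 0).mapIso
            (asIso ((cokernel.π ι).f i)))
    have h1 : IsNPC P n (DerivedCategory.Q.obj
        ((HomologicalComplex.single C (ComplexShape.up ℤ) b).obj (F.X b))) :=
      isNPC_single P n b _ (hterms b (by omega))
    exact isNPC_obj₂ P hsum hqs hql n _ (DerivedCategory.triangleOfSES_distinguished hS) h1 hK

include hsum hqs hql in
theorem isNPC_of_terms (n : ℤ) (F : CochainComplex C ℤ) (b : ℤ)
    (hb : ∀ i : ℤ, b < i → IsZero (F.X i))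
    (hterms : ∀ i : ℤ, n ≤ i →
      IsNPC P (n - i) ((DerivedCategory.singleFunctor C 0).obj (F.X i))) :
    IsNPC P n (DerivedCategory.Q.obj F) :=
  isNPC_of_terms_aux P hsum hqs hql n (b - n + 1).toNat F b (by omega) hb hterms

end main

end Groth.Agent.H3.PCohLib
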