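import Mathlib
import Groth.Prelude.Def_PCoh
import Groth.Agent.Lib.Helper3.PCoh.NPC5

set_option autoImplicit false

open CategoryTheory CategoryTheory.Limits HomologicalComplex CochainComplex HomComplex ZeroObject
open Pretriangulated

universe w v u

namespace Groth.Agent.H3.PCohLib

variable {C : Type u} [Category.{v} C] [Abelian C] [HasDerivedCategory.{w} C]

section main

variable (P : ObjectProperty C) [P.IsClosedUnderIsomorphisms] [P.ContainsZero]
  (hsum : ∀ X Y : C, P X → P Y → P (X ⨯ Y))
  (hqs : PCoh.IsQuasiStableUnderKernels P) (hql : PCoh.IsQuasiLiftable P)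

include hqs in
/-- an object which is `0`-pseudo-coherent in degree `0` is of finite type -/
theorem ft_of_isNPC_single (X : C) (h : IsNPC P 0 ((DerivedCategory.singleFunctor C 0).obj X)) :
    PCoh.IsOfFiniteType P X := by
  have hac : ∀ i : ℤ, 0 < i → IsZero ((DerivedCategory.homologyFunctor C i).obj
      ((DerivedCategory.singleFunctor C 0).obj X)) := by
    intro i hi
    exact IsZero.of_iso (isZero_single_obj_homology (ComplexShape.up ℤ) 0 X i (by omega))
      (homIso ((HomologicalComplex.single C (ComplexShape.up ℤ) 0).obj X) i)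
  have := ft_of_isNPC P hqs 0 _ hac h
  exact isOfFiniteType_of_iso P ((DerivedCategory.singleFunctorCompHomologyFunctorIso C 0).app X) this

include hsum hqs hql in
/-- kernel of an epimorphism between pseudo-coherent objects -/
theorem isPC_X₁ (S : ShortComplex C) (hS : S.ShortExact)
    (h₂ : PCoh.IsPC P ((DerivedCategory.singleFunctor C 0).obj S.X₂))
    (h₃ : PCoh.IsPC P ((DerivedCategory.singleFunctor C 0).obj S.X₃)) :
    PCoh.IsPC P ((DerivedCategory.singleFunctor C 0).obj S.X₁) := by
  intro n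
  have := isNPC_obj₁ P hsum hqs hql (n - 1) hS.singleTriangle hS.singleTriangle_distinguished
    (h₂ (n - 1 + 1)) (h₃ (n - 1))
  rw [sub_add_cancel] at this
  exact this

theorem isPC_of_iso {X Y : C} (e : X ≅ Y)
    (h : PCoh.IsPC P ((DerivedCategory.singleFunctor C 0).obj X)) :
    PCoh.IsPC P ((DerivedCategory.singleFunctor C 0).obj Y) := fun n =>
  IsNPC.of_iso ((DerivedCategory.singleFunctor C 0).mapIso e) (h n)

end main

section nat

variable (K : CochainComplex C ℕ)

/-- the short complex `0 → Zⁱ → Kⁱ → Zⁱ⁺¹ → 0` -/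
noncomputable def cyclesSC (i : ℕ) : ShortComplex C :=
  ShortComplex.mk (K.iCycles i) (K.toCycles i (i + 1)) (by
    rw [← cancel_mono (K.iCycles (i + 1)), Category.assoc, K.toCycles_i, K.iCycles_d, zero_comp])

theorem cyclesSC_shortExact (i : ℕ) (hex : K.ExactAt (i + 1)) : (cyclesSC K i).ShortExact where
  exact := ShortComplex.exact_of_f_is_kernel _
    (isKernelOfComp (K.iCycles (i + 1)) (K.d i (i + 1)) (K.cyclesIsKernel i (i + 1) (by simp)) _
      (K.toCycles_i i (i + 1)))
  mono_f := inferInstanceAs (Mono (K.iCycles i))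
  epi_g := Preadditive.epi_of_isZero_cokernel' _ (K.homologyIsCokernel i (i + 1) (by simp))
    ((exactAt_iff_isZero_homology _ _).1 hex)

theorem isIso_toCycles_zero (h0 : K.ExactAt 0) (h1 : K.ExactAt 1) : IsIso (K.toCycles 0 1) := by
  have hepi : Epi (K.toCycles 0 1) := (cyclesSC_shortExact K 0 h1).epi_g
  have hmono : Mono (K.d 0 1) := by
    rw [K.exactAt_iff' 0 0 1 (by simp) (by simp)] at h0
    exact (ShortComplex.exact_iff_mono _ (K.shape 0 0 (by simp))).1 h0
  have : Mono (K.toCycles 0 1 ≫ K.iCycles 1) := by rw [K.toCycles_i]; exact hmono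
  have : Mono (K.toCycles 0 1) := mono_of_mono _ (K.iCycles 1)
  exact isIso_of_mono_of_epi _

end nat

section main2

variable (P : ObjectProperty C) [P.IsClosedUnderIsomorphisms] [P.ContainsZero]
  (hsum : ∀ X Y : C, P X → P Y → P (X ⨯ Y))
  (hqs : PCoh.IsQuasiStableUnderKernels P) (hql : PCoh.IsQuasiLiftable P)
  (P₁ : ObjectProperty C) (hle : ∀ X : C, P X → P₁ X)
  (hpc : ∀ X : C, P₁ X → PCoh.IsPC P ((DerivedCategory.singleFunctor C 0).obj X))

include hqs hql hle hpc in
theorem quasiLiftable_of_isPC : PCoh.IsQuasiLiftable P₁ := by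
  intro E F u hu hF
  obtain ⟨X, π, hX, hπ⟩ := ft_of_isNPC_single P hqs F (hpc F hF 0)
  obtain ⟨X', w, hX', hw⟩ := hql _ _ (pullback.snd u π) inferInstance hX
  refine ⟨X', w ≫ pullback.fst u π, hle _ hX', ?_⟩
  rw [Category.assoc, pullback.condition, ← Category.assoc]
  exact epi_comp _ _

include hsum hqs hql hle hpc in
theorem quasiStable_of_isPC : PCoh.IsQuasiStableUnderKernels P₁ := by
  intro K hex hN hP₁
  obtain ⟨N, hN⟩ := hN
  have hZ : ∀ (k i : ℕ), 1 ≤ i → N + 1 ≤ i + k →
      PCoh.IsPC P ((DerivedCategory.singleFunctor C 0).obj (K.cycles i)) := by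
    intro k
    induction k with
    | zero =>
      intro i _ hi n
      refine isNPC_of_isZero P n (Functor.map_isZero _ ?_)
      rw [IsZero.iff_id_eq_zero, ← cancel_mono (K.iCycles i)]
      exact (hN i (by omega)).eq_of_tgt _ _
    | succ k ih =>
      intro i hi hik
      exact isPC_X₁ P hsum hqs hql (cyclesSC K i) (cyclesSC_shortExact K i (hex _))
        (hpc _ (hP₁ i hi)) (ih (i + 1) (by omega) (by omega))
  have h1 := hZ N 1 le_rfl (by omega)
  have := isIso_toCycles_zero K (hex 0) (hex 1)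
  have h0 := isPC_of_iso P (asIso (K.toCycles 0 1)).symm h1
  obtain ⟨X, π, hX, hπ⟩ := ft_of_isNPC_single P hqs _ (h0 0)
  exact ⟨X, π, hle _ hX, hπ⟩

end main2

end Groth.Agent.H3.PCohLib
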