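import Mathlib
import Groth.Prelude.Def_PCoh
import Groth.Agent.Lib.Helper3.PCoh.NPC6

set_option autoImplicit false

open CategoryTheory CategoryTheory.Limits HomologicalComplex CochainComplex HomComplex ZeroObject
open Pretriangulated

universe w v u

namespace Groth.Agent.H3.PCohLib

section additive

variable {A B : Type*} [Category A] [Category B] [Preadditive A] [Preadditive B]
  (Φ : A ⥤ B) [Φ.Additive]

theorem epi_map_biprod_map {X₁ X₂ Y₁ Y₂ : A} [HasBinaryBiproduct X₁ X₂] [HasBinaryBiproduct Y₁ Y₂]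
    (f : X₁ ⟶ Y₁) (g : X₂ ⟶ Y₂) (hf : Epi (Φ.map f)) (hg : Epi (Φ.map g)) :
    Epi (Φ.map (biprod.map f g)) := by
  apply Preadditive.epi_of_cancel_zero
  intro R t ht
  have e1 : Φ.map f ≫ Φ.map (biprod.inl : Y₁ ⟶ Y₁ ⊞ Y₂) =
      Φ.map (biprod.inl : X₁ ⟶ X₁ ⊞ X₂) ≫ Φ.map (biprod.map f g) := by
    rw [← Φ.map_comp, ← Φ.map_comp, biprod.inl_map]
  have e2 : Φ.map g ≫ Φ.map (biprod.inr : Y₂ ⟶ Y₁ ⊞ Y₂) =
      Φ.map (biprod.inr : X₂ ⟶ X₁ ⊞ X₂) ≫ Φ.map (biprod.map f g) := by
    rw [← Φ.map_comp, ← Φ.map_comp, biprod.inr_map]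
  have h1 : Φ.map biprod.inl ≫ t = 0 := by
    rw [← cancel_epi (Φ.map f), ← Category.assoc, e1, Category.assoc, ht, comp_zero, comp_zero]
  have h2 : Φ.map biprod.inr ≫ t = 0 := by
    rw [← cancel_epi (Φ.map g), ← Category.assoc, e2, Category.assoc, ht, comp_zero, comp_zero]
  have : t = Φ.map (𝟙 _) ≫ t := by simp
  rw [this, ← biprod.total, Φ.map_add, Preadditive.add_comp, Φ.map_comp, Φ.map_comp,
    Category.assoc, Category.assoc, h1, h2, comp_zero, comp_zero, add_zero]

theorem mono_map_biprod_map {X₁ X₂ Y₁ Y₂ : A} [HasBinaryBiproduct X₁ X₂] [HasBinaryBiproduct Y₁ Y₂]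
    (f : X₁ ⟶ Y₁) (g : X₂ ⟶ Y₂) (hf : Mono (Φ.map f)) (hg : Mono (Φ.map g)) :
    Mono (Φ.map (biprod.map f g)) := by
  apply Preadditive.mono_of_cancel_zero
  intro R t ht
  have e1 : Φ.map (biprod.fst : X₁ ⊞ X₂ ⟶ X₁) ≫ Φ.map f =
      Φ.map (biprod.map f g) ≫ Φ.map (biprod.fst : Y₁ ⊞ Y₂ ⟶ Y₁) := by
    rw [← Φ.map_comp, ← Φ.map_comp, biprod.map_fst]
  have e2 : Φ.map (biprod.snd : X₁ ⊞ X₂ ⟶ X₂) ≫ Φ.map g =
      Φ.map (biprod.map f g) ≫ Φ.map (biprod.snd : Y₁ ⊞ Y₂ ⟶ Y₂) := by
    rw [← Φ.map_comp, ← Φ.map_comp, biprod.map_snd]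
  have h1 : t ≫ Φ.map biprod.fst = 0 := by
    rw [← cancel_mono (Φ.map f), Category.assoc, e1, ← Category.assoc, ht, zero_comp, zero_comp]
  have h2 : t ≫ Φ.map biprod.snd = 0 := by
    rw [← cancel_mono (Φ.map g), Category.assoc, e2, ← Category.assoc, ht, zero_comp, zero_comp]
  have : t = t ≫ Φ.map (𝟙 _) := by simp
  rw [this, ← biprod.total, Φ.map_add, Preadditive.comp_add, Φ.map_comp, Φ.map_comp,
    ← Category.assoc, ← Category.assoc, h1, h2, zero_comp, zero_comp, add_zero]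

end additive

variable {C : Type u} [Category.{v} C] [Abelian C] [HasDerivedCategory.{w} C]

/-- vanishing of the cohomology of the third vertex of a distinguished triangle -/
theorem isZero_homology_obj₃ (T : Triangle (DerivedCategory C)) (hT : T ∈ distTriang _) (i : ℤ)
    (h1 : Epi ((DerivedCategory.homologyFunctor C i).map T.mor₁))
    (h2 : Mono ((DerivedCategory.homologyFunctor C (i + 1)).map T.mor₁)) :
    IsZero ((DerivedCategory.homologyFunctor C i).obj T.obj₃) := by
  have e1 := (DerivedCategory.HomologySequence.epi_homologyMap_mor₁_iff T hT i).1 h1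
  have e2 := (DerivedCategory.HomologySequence.mono_homologyMap_mor₁_iff T hT i (i + 1) rfl).1 h2
  exact (DerivedCategory.HomologySequence.exact₃ T hT i (i + 1) rfl).isZero_of_both_zeros e1 e2

theorem isNPC_bounded {P : ObjectProperty C} {n : ℤ} {F : DerivedCategory C} (h : IsNPC P n F) :
    ∃ b : ℤ, ∀ i : ℤ, b < i → IsZero ((DerivedCategory.homologyFunctor C i).obj F) := by
  obtain ⟨E, ⟨⟨b, hb⟩, -⟩, ⟨e⟩⟩ := h
  refine ⟨b, fun i hi => ?_⟩
  exact IsZero.of_iso (isZero_homology_of_isZero_X E i (hb i hi))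
    ((DerivedCategory.homologyFunctor C i).mapIso e.symm ≪≫ homIso E i)

theorem isOfFiniteType_of_isZero (P : ObjectProperty C) [P.IsClosedUnderIsomorphisms] [P.ContainsZero] {X : C} (h : IsZero X) :
    PCoh.IsOfFiniteType P X :=
  ⟨0, 0, P.prop_of_isZero (isZero_zero _), IsZero.epi h _⟩

section main

variable (P : ObjectProperty C) [P.IsClosedUnderIsomorphisms] [P.ContainsZero]
  (hsum : ∀ X Y : C, P X → P Y → P (X ⨯ Y))
  (hqs : PCoh.IsQuasiStableUnderKernels P) (hql : PCoh.IsQuasiLiftable P)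

include hsum hqs hql in
theorem isNPC_biprod (n : ℤ) (F' F'' : DerivedCategory C) [HasBinaryBiproduct F' F'']
    (h' : IsNPC P n F') (h'' : IsNPC P n F'') : IsNPC P n (F' ⊞ F'') :=
  isNPC_obj₂ P hsum hqs hql n _ (binaryBiproductTriangle_distinguished F' F'') h' h''

include hsum hqs hql in
theorem isNPC_summand_step (m : ℤ) (F' F'' : DerivedCategory C) [HasBinaryBiproduct F' F'']
    (h : IsNPC P m (F' ⊞ F'')) (h' : IsNPC P (m + 1) F') (h'' : IsNPC P (m + 1) F'') :
    IsNPC P m F' := by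
  obtain ⟨E', a', b', α', hz', hP', hiso', hepi'⟩ := nIso_of_isNPC P hsum hqs hql (m + 1) F' h'
  obtain ⟨E'', a'', b'', α'', hz'', hP'', hiso'', hepi''⟩ :=
    nIso_of_isNPC P hsum hqs hql (m + 1) F'' h''
  have hA' : ∀ k, IsNPC P k (DerivedCategory.Q.obj E') := fun k =>
    ⟨E', ⟨⟨b', fun i hi => hz' i (Or.inr hi)⟩, fun i _ => hP' i⟩, ⟨Iso.refl _⟩⟩
  have hA'' : ∀ k, IsNPC P k (DerivedCategory.Q.obj E'') := fun k =>
    ⟨E'', ⟨⟨b'', fun i hi => hz'' i (Or.inr hi)⟩, fun i _ => hP'' i⟩, ⟨Iso.refl _⟩⟩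
  have hE' : ∀ i, m < i → Epi ((DerivedCategory.homologyFunctor C i).map α') := by
    intro i hi
    rcases eq_or_lt_of_le (Int.add_one_le_iff.mpr hi) with h | h
    · rw [← h]; exact hepi'
    · have := hiso' i h; infer_instance
  have hE'' : ∀ i, m < i → Epi ((DerivedCategory.homologyFunctor C i).map α'') := by
    intro i hi
    rcases eq_or_lt_of_le (Int.add_one_le_iff.mpr hi) with h | h
    · rw [← h]; exact hepi''
    · have := hiso'' i h; infer_instance
  have hM' : ∀ i, m + 1 < i → Mono ((DerivedCategory.homologyFunctor C i).map α') := by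
    intro i hi; have := hiso' i hi; infer_instance
  have hM'' : ∀ i, m + 1 < i → Mono ((DerivedCategory.homologyFunctor C i).map α'') := by
    intro i hi; have := hiso'' i hi; infer_instance
  obtain ⟨G', f', g', hT'⟩ := distinguished_cocone_triangle α'
  obtain ⟨G, f, g, hT⟩ := distinguished_cocone_triangle (biprod.map α' α'')
  have hG : IsNPC P m G := isNPC_obj₃ P hsum hqs hql m _ hT
    (isNPC_biprod P hsum hqs hql (m + 1) _ _ (hA' _) (hA'' _)) h
  have hGac : ∀ i, m < i → IsZero ((DerivedCategory.homologyFunctor C i).obj G) := fun i hi =>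
    isZero_homology_obj₃ _ hT i
      (epi_map_biprod_map _ α' α'' (hE' i hi) (hE'' i hi))
      (mono_map_biprod_map _ α' α'' (hM' _ (by omega)) (hM'' _ (by omega)))
  have hG'ac : ∀ i, m < i → IsZero ((DerivedCategory.homologyFunctor C i).obj G') := fun i hi =>
    isZero_homology_obj₃ _ hT' i (hE' i hi) (hM' _ (by omega))
  obtain ⟨X, π, hX, hπ⟩ := ft_of_isNPC P hqs m G hGac hG
  let φ₁ := completeDistinguishedTriangleMorphism _ _ hT' hT biprod.inl biprod.inl
    (biprod.inl_map α' α'').symm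
  let φ₂ := completeDistinguishedTriangleMorphism _ _ hT hT' biprod.fst biprod.fst
    (biprod.map_fst α' α'')
  have e1 : (φ₁ ≫ φ₂).hom₁ = 𝟙 _ := biprod.inl_fst
  have e2 : (φ₁ ≫ φ₂).hom₂ = 𝟙 _ := biprod.inl_fst
  have h3 : IsIso (φ₁ ≫ φ₂).hom₃ := isIso₃_of_isIso₁₂ (φ₁ ≫ φ₂) hT' hT'
    (by rw [e1]; infer_instance) (by rw [e2]; infer_instance)
  have hepi : Epi ((DerivedCategory.homologyFunctor C m).map φ₂.hom₃) := by
    have : IsIso ((DerivedCategory.homologyFunctor C m).map φ₁.hom₃ ≫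
        (DerivedCategory.homologyFunctor C m).map φ₂.hom₃) := by
      rw [← Functor.map_comp]
      change IsIso ((DerivedCategory.homologyFunctor C m).map (φ₁ ≫ φ₂).hom₃)
      infer_instance
    have : Epi ((DerivedCategory.homologyFunctor C m).map φ₁.hom₃ ≫
        (DerivedCategory.homologyFunctor C m).map φ₂.hom₃) := inferInstance
    exact epi_of_epi ((DerivedCategory.homologyFunctor C m).map φ₁.hom₃) _
  have hG'ft : PCoh.IsOfFiniteType P ((DerivedCategory.homologyFunctor C m).obj G') :=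
    ⟨X, π ≫ (DerivedCategory.homologyFunctor C m).map φ₂.hom₃, hX, @epi_comp _ _ _ _ _ π hπ _ hepi⟩
  have hG' : IsNPC P m G' := isNPC_of_ft P hql m G' hG'ac hG'ft
  exact isNPC_obj₂ P hsum hqs hql m _ hT' (hA' m) hG'

include hsum hqs hql in
theorem isNPC_summand (n : ℤ) (F' F'' : DerivedCategory C) [HasBinaryBiproduct F' F'']
    (h : IsNPC P n (F' ⊞ F'')) : IsNPC P n F' ∧ IsNPC P n F'' := by
  obtain ⟨b₀, hb₀⟩ := isNPC_bounded h
  obtain ⟨b, hb, hnb⟩ : ∃ b : ℤ, (∀ i : ℤ, b < i →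
      IsZero ((DerivedCategory.homologyFunctor C i).obj (F' ⊞ F''))) ∧ n ≤ b + 1 :=
    ⟨max b₀ n, fun i hi => hb₀ i (by omega), by omega⟩
  have hz' : ∀ i : ℤ, b < i → IsZero ((DerivedCategory.homologyFunctor C i).obj F') := by
    intro i hi
    have : 𝟙 ((DerivedCategory.homologyFunctor C i).obj F') =
        (DerivedCategory.homologyFunctor C i).map (biprod.inl : F' ⟶ F' ⊞ F'') ≫
          (DerivedCategory.homologyFunctor C i).map biprod.fst := by
      rw [← CategoryTheory.Functor.map_comp, biprod.inl_fst, CategoryTheory.Functor.map_id]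
    rw [IsZero.iff_id_eq_zero, this,
      (hb i hi).eq_of_tgt ((DerivedCategory.homologyFunctor C i).map biprod.inl) 0, zero_comp]
  have hz'' : ∀ i : ℤ, b < i → IsZero ((DerivedCategory.homologyFunctor C i).obj F'') := by
    intro i hi
    have : 𝟙 ((DerivedCategory.homologyFunctor C i).obj F'') =
        (DerivedCategory.homologyFunctor C i).map (biprod.inr : F'' ⟶ F' ⊞ F'') ≫
          (DerivedCategory.homologyFunctor C i).map biprod.snd := by
      rw [← CategoryTheory.Functor.map_comp, biprod.inr_snd, CategoryTheory.Functor.map_id]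
    rw [IsZero.iff_id_eq_zero, this,
      (hb i hi).eq_of_tgt ((DerivedCategory.homologyFunctor C i).map biprod.inr) 0, zero_comp]
  have key : ∀ (k : ℕ) (m : ℤ), m = b + 1 - k → n ≤ m → IsNPC P m F' ∧ IsNPC P m F'' := by
    intro k
    induction k with
    | zero =>
      intro m hm _
      have hm' : m = b + 1 := by simpa using hm
      exact ⟨isNPC_of_ft P hql m F' (fun i hi => hz' i (by omega))
          (isOfFiniteType_of_isZero P (hz' m (by omega))),
        isNPC_of_ft P hql m F'' (fun i hi => hz'' i (by omega))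
          (isOfFiniteType_of_isZero P (hz'' m (by omega)))⟩
    | succ k ih =>
      intro m hm hnm
      obtain ⟨h1, h2⟩ := ih (m + 1) (by push_cast at hm; omega) (by omega)
      refine ⟨isNPC_summand_step P hsum hqs hql m F' F'' (h.mono hnm) h1 h2, ?_⟩
      haveI : HasBinaryBiproduct F'' F' := inferInstance
      exact isNPC_summand_step P hsum hqs hql m F'' F'
        ((h.mono hnm).of_iso (biprod.braiding F' F'')) h2 h1
  exact key (b + 1 - n).toNat n (by omega) le_rfl

end main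

end Groth.Agent.H3.PCohLib
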