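import Mathlib
import Groth.Prelude.Def_PCoh
import Groth.Agent.Lib.Helper3.PCoh.NPC7

set_option autoImplicit false

open CategoryTheory CategoryTheory.Limits HomologicalComplex CochainComplex HomComplex ZeroObject
open Pretriangulated

universe w v u

namespace Groth.Agent.H3.PCohLib

variable {C : Type u} [Category.{v} C] [Abelian C] [HasDerivedCategory.{w} C]

section les

variable (T : Triangle (DerivedCategory C)) (hT : T ∈ distTriang _)

include hT in
theorem isIso_homology_mor₂ (i : ℤ)
    (h1 : IsZero ((DerivedCategory.homologyFunctor C i).obj T.obj₁))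
    (h2 : IsZero ((DerivedCategory.homologyFunctor C (i + 1)).obj T.obj₁)) :
    IsIso ((DerivedCategory.homologyFunctor C i).map T.mor₂) := by
  have hm : Mono ((DerivedCategory.homologyFunctor C i).map T.mor₂) :=
    (DerivedCategory.HomologySequence.exact₂ T hT i).mono_g (h1.eq_of_src _ _)
  have he : Epi ((DerivedCategory.homologyFunctor C i).map T.mor₂) :=
    (DerivedCategory.HomologySequence.exact₃ T hT i (i + 1) rfl).epi_f (h2.eq_of_tgt _ _)
  exact isIso_of_mono_of_epi _

include hT in
theorem isIso_homology_mor₁ (i : ℤ)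
    (h1 : IsZero ((DerivedCategory.homologyFunctor C (i - 1)).obj T.obj₃))
    (h2 : IsZero ((DerivedCategory.homologyFunctor C i).obj T.obj₃)) :
    IsIso ((DerivedCategory.homologyFunctor C i).map T.mor₁) := by
  have hm : Mono ((DerivedCategory.homologyFunctor C i).map T.mor₁) :=
    (DerivedCategory.HomologySequence.exact₁ T hT (i - 1) i (by omega)).mono_g (h1.eq_of_src _ _)
  have he : Epi ((DerivedCategory.homologyFunctor C i).map T.mor₁) :=
    (DerivedCategory.HomologySequence.exact₂ T hT i).epi_f (h2.eq_of_tgt _ _)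
  exact isIso_of_mono_of_epi _

include hT in
theorem isZero_homology_obj₃' (i : ℤ)
    (h1 : IsZero ((DerivedCategory.homologyFunctor C i).obj T.obj₂))
    (h2 : IsZero ((DerivedCategory.homologyFunctor C (i + 1)).obj T.obj₁)) :
    IsZero ((DerivedCategory.homologyFunctor C i).obj T.obj₃) :=
  (DerivedCategory.HomologySequence.exact₃ T hT i (i + 1) rfl).isZero_of_both_isZero h1 h2

end les

section main

variable (P : ObjectProperty C) [P.IsClosedUnderIsomorphisms] [P.ContainsZero]
  (hsum : ∀ X Y : C, P X → P Y → P (X ⨯ Y))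
  (hqs : PCoh.IsQuasiStableUnderKernels P) (hql : PCoh.IsQuasiLiftable P)

include hsum hqs hql in
theorem isNPC_of_homology_aux (n : ℤ) : ∀ (k : ℕ) (F : DerivedCategory C) (b : ℤ), b < n + k →
    (∀ i : ℤ, b < i → IsZero ((DerivedCategory.homologyFunctor C i).obj F)) →
    (∀ i : ℤ, n ≤ i → IsNPC P (n - i) ((DerivedCategory.singleFunctor C 0).obj
      ((DerivedCategory.homologyFunctor C i).obj F))) → IsNPC P n F := by
  have triv : ∀ (F : DerivedCategory C) (b : ℤ), b < n →
      (∀ i : ℤ, b < i → IsZero ((DerivedCategory.homologyFunctor C i).obj F)) → IsNPC P n F :=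
    fun F b hbn hb => isNPC_of_ft P hql n F (fun i hi => hb i (by omega))
      (isOfFiniteType_of_isZero P (hb n hbn))
  intro k
  induction k with
  | zero => intro F b hbn hb _; exact triv F b (by simpa using hbn) hb
  | succ k ih =>
    intro F b hbn hb hH
    by_cases hbn' : b < n
    · exact triv F b hbn' hb
    let T := (DerivedCategory.TStructure.t.triangleLTGE b).obj F
    have hT : T ∈ distTriang _ := DerivedCategory.TStructure.t.triangleLTGE_distinguished b F
    have hAz : ∀ i : ℤ, b - 1 < i → IsZero ((DerivedCategory.homologyFunctor C i).obj T.obj₁) :=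
      fun i hi => DerivedCategory.isZero_of_isLE T.obj₁ (b - 1) i hi
    have hBz : ∀ i : ℤ, i < b → IsZero ((DerivedCategory.homologyFunctor C i).obj T.obj₃) :=
      fun i hi => DerivedCategory.isZero_of_isGE T.obj₃ b i hi
    have hA : IsNPC P n T.obj₁ := by
      refine ih T.obj₁ (b - 1) (by push_cast at hbn; omega) hAz ?_
      intro i hi
      by_cases hib : i < b
      · have := isIso_homology_mor₁ T hT i (hBz _ (by omega)) (hBz _ hib)
        exact (hH i hi).of_iso ((DerivedCategory.singleFunctor C 0).mapIso
          (asIso ((DerivedCategory.homologyFunctor C i).map T.mor₁)).symm)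
      · exact isNPC_of_isZero P _ (Functor.map_isZero _ (hAz i (by omega)))
    have hBle : T.obj₃.IsLE b := by
      rw [DerivedCategory.isLE_iff]
      intro i hi
      exact isZero_homology_obj₃' T hT i (hb i hi) (hAz _ (by omega))
    obtain ⟨Y, ⟨e⟩⟩ := DerivedCategory.exists_iso_singleFunctor_obj_of_isGE_of_isLE T.obj₃ b
    have hiso2 := isIso_homology_mor₂ T hT b (hAz _ (by omega)) (hAz _ (by omega))
    have eY : (DerivedCategory.homologyFunctor C b).obj F ≅ Y :=
      @asIso _ _ _ _ ((DerivedCategory.homologyFunctor C b).map T.mor₂) hiso2 ≪≫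
        (DerivedCategory.homologyFunctor C b).mapIso e ≪≫
        (DerivedCategory.singleFunctorCompHomologyFunctorIso C b).app Y
    have hB : IsNPC P n T.obj₃ := by
      have h1 : IsNPC P (n - b) ((DerivedCategory.singleFunctor C 0).obj Y) :=
        (hH b (by omega)).of_iso ((DerivedCategory.singleFunctor C 0).mapIso eY)
      exact (isNPC_single P n b Y h1).of_iso e.symm
    exact isNPC_obj₂ P hsum hqs hql n T hT hA hB

include hsum hqs hql in
theorem isNPC_of_homology (n : ℤ) (F : DerivedCategory C) (b : ℤ)
    (hb : ∀ i : ℤ, b < i → IsZero ((DerivedCategory.homologyFunctor C i).obj F))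
    (hH : ∀ i : ℤ, n ≤ i → IsNPC P (n - i) ((DerivedCategory.singleFunctor C 0).obj
      ((DerivedCategory.homologyFunctor C i).obj F))) : IsNPC P n F :=
  isNPC_of_homology_aux P hsum hqs hql n (b - n + 1).toNat F b (by omega) hb hH

end main

end Groth.Agent.H3.PCohLib
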