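import Mathlib

set_option autoImplicit false

open CategoryTheory CategoryTheory.Limits HomologicalComplex

universe v u

namespace Groth.Agent.H3.PCohLib

variable {C : Type u} [Category.{v} C] [Abelian C]

/-- a sequence of complexes which is degreewise eventually constant has a colimit, computed
degreewise by the eventual value -/
theorem exists_colimit_of_eventually_iso (G : ℕ → CochainComplex C ℤ) (w : ∀ j, G j ⟶ G (j + 1))
    (j₀ : ℤ → ℕ) (hw : ∀ i j, j₀ i ≤ j → IsIso ((w j).f i)) :
    ∃ (E' : CochainComplex C ℤ) (ι : ∀ j, G j ⟶ E'), (∀ j, w j ≫ ι (j + 1) = ι j) ∧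
      (∀ i j, j₀ i ≤ j → IsIso ((ι j).f i)) ∧
      ∀ (F : CochainComplex C ℤ) (u : ∀ j, G j ⟶ F), (∀ j, w j ≫ u (j + 1) = u j) →
        ∃ u' : E' ⟶ F, ∀ j, ι j ≫ u' = u j := by
  let Φ : ℕ ⥤ CochainComplex C ℤ := Functor.ofSequence w
  have hΦ : ∀ j, Φ.map (homOfLE (Nat.le_add_right j 1)) = w j := fun j =>
    Functor.ofSequence_map_homOfLE_succ w j
  have hconst : ∀ i : ℤ, (Φ ⋙ eval C (ComplexShape.up ℤ) i).IsEventuallyConstantFrom (j₀ i) := by
    intro i j f
    have key : ∀ d : ℕ, IsIso ((Φ.map (homOfLE (Nat.le_add_right (j₀ i) d))).f i) := by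
      intro d
      induction d with
      | zero =>
        have : homOfLE (Nat.le_add_right (j₀ i) 0) = 𝟙 (j₀ i) := Subsingleton.elim _ _
        rw [this, Φ.map_id]
        exact inferInstanceAs (IsIso (𝟙 _))
      | succ d ih =>
        have : homOfLE (Nat.le_add_right (j₀ i) (d + 1)) =
            homOfLE (Nat.le_add_right (j₀ i) d) ≫ homOfLE (Nat.le_add_right (j₀ i + d) 1) :=
          Subsingleton.elim _ _
        rw [this, Φ.map_comp, hΦ, HomologicalComplex.comp_f]
        have h2 := hw i (j₀ i + d) (by omega)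
        exact @IsIso.comp_isIso _ _ _ _ _ _ _ ih h2
    obtain ⟨d, rfl⟩ := Nat.exists_eq_add_of_le (leOfHom f)
    obtain rfl : f = homOfLE (Nat.le_add_right (j₀ i) d) := Subsingleton.elim _ _
    exact key d
  haveI : ∀ i : ℤ, HasColimit (Φ ⋙ eval C (ComplexShape.up ℤ) i) := fun i => (hconst i).hasColimit
  refine ⟨colimit Φ, fun j => colimit.ι Φ j, ?_, ?_, ?_⟩
  · intro j
    rw [← hΦ]
    exact colimit.w Φ _
  · intro i j hj
    exact (hconst i).isIso_ι_of_isColimit'
      (isColimitOfPreserves (eval C (ComplexShape.up ℤ) i) (colimit.isColimit Φ)) j (homOfLE hj)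
  · intro F u hu
    let c : Cocone Φ :=
      { pt := F
        ι := NatTrans.ofSequence (F := Φ) (G := (Functor.const ℕ).obj F) u (fun j => by
          rw [hΦ]
          exact (hu j).trans (Category.comp_id _).symm) }
    exact ⟨colimit.desc Φ c, fun j => colimit.ι_desc c j⟩

end Groth.Agent.H3.PCohLib
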