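import Mathlib
import Groth.Prelude.Def_PCoh
import Groth.Agent.Lib.Helper3.PCoh.Inf1

set_option autoImplicit false

open CategoryTheory CategoryTheory.Limits HomologicalComplex CochainComplex HomComplex ZeroObject
open Pretriangulated

universe w v u

namespace Groth.Agent.H3.PCohLib

variable {C : Type u} [Category.{v} C] [Abelian C] [HasDerivedCategory.{w} C]

theorem strictPCAll_isPC {P : ObjectProperty C} {E : CochainComplex C ℤ}
    (hE : PCoh.IsStrictPCAll P E) : PCoh.IsPC P (DerivedCategory.Q.obj E) :=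
  fun _ => ⟨E, ⟨hE.1, fun i _ => hE.2 i⟩, ⟨Iso.refl _⟩⟩

theorem isPC_of_iso_D {P : ObjectProperty C} {F F' : DerivedCategory C} (e : F ≅ F')
    (h : PCoh.IsPC P F) : PCoh.IsPC P F' := fun n => IsNPC.of_iso e (h n)

section main

variable (P : ObjectProperty C) [P.IsClosedUnderIsomorphisms] [P.ContainsZero]
  (hsum : ∀ X Y : C, P X → P Y → P (X ⨯ Y))
  (hqs : PCoh.IsQuasiStableUnderKernels P) (hql : PCoh.IsQuasiLiftable P)

include hsum hqs hql in
/-- infinite resolution lemma -/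
theorem exists_strictPCAll_quasiIso (X : CochainComplex C ℤ)
    (hX : PCoh.IsPC P (DerivedCategory.Q.obj X)) (m : ℤ)
    (hac : ∀ i : ℤ, m ≤ i → IsZero (X.homology i)) :
    ∃ (E' : CochainComplex C ℤ) (v : E' ⟶ X), PCoh.IsStrictPCAll P E' ∧
      (∀ i : ℤ, m ≤ i → IsZero (E'.X i)) ∧ QuasiIso v := by
  have hz : ∀ i, IsZero ((0 : CochainComplex C ℤ).X i) := fun i =>
    Functor.map_isZero (HomologicalComplex.eval C (ComplexShape.up ℤ) i) (isZero_zero _)
  have hz' : ∀ i, IsZero ((0 : CochainComplex C ℤ).homology i) := fun i =>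
    isZero_homology_of_isZero_X _ i (hz i)
  obtain ⟨E', v, u', -, hE', hu', -, hviso⟩ := factor_strictPCAll P hsum hqs hql hX m 0
    ⟨⟨0, fun i _ => hz i⟩, fun i => P.prop_of_isZero (hz i)⟩ 0
    (fun i hi => ⟨0, (hz' i).eq_of_src _ _, (hac i (by omega)).eq_of_src _ _⟩)
    (IsZero.epi (hac m le_rfl) _)
  refine ⟨E', u', hE', fun i hi => ?_, hu'⟩
  have := hviso i hi
  exact IsZero.of_iso (hz i) (asIso (v.f i)).symm

include hsum hqs hql in
theorem exists_strictPCAll_iso (m : ℤ) (F : DerivedCategory C) (hF : PCoh.IsPC P F)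
    (hac : ∀ i : ℤ, m ≤ i → IsZero ((DerivedCategory.homologyFunctor C i).obj F)) :
    ∃ E : CochainComplex C ℤ, PCoh.IsStrictPCAll P E ∧ (∀ i : ℤ, m ≤ i → IsZero (E.X i)) ∧
      Nonempty (DerivedCategory.Q.obj E ≅ F) := by
  let X := DerivedCategory.Q.objPreimage F
  let eX : DerivedCategory.Q.obj X ≅ F := DerivedCategory.Q.objObjPreimageIso F
  have hiso : ∀ i, X.homology i ≅ (DerivedCategory.homologyFunctor C i).obj F := fun i =>
    (homIso X i).symm ≪≫ (DerivedCategory.homologyFunctor C i).mapIso eX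
  obtain ⟨E', v, hE', hz, hv⟩ := exists_strictPCAll_quasiIso P hsum hqs hql X
    (isPC_of_iso_D eX.symm hF) m (fun i hi => IsZero.of_iso (hac i hi) (hiso i))
  exact ⟨E', hE', hz, ⟨asIso (DerivedCategory.Q.map v) ≪≫ eX⟩⟩

include hsum hqs hql in
theorem exists_strictPCAll_iso' (F : DerivedCategory C) (hF : PCoh.IsPC P F) :
    ∃ E : CochainComplex C ℤ, PCoh.IsStrictPCAll P E ∧ Nonempty (DerivedCategory.Q.obj E ≅ F) := by
  obtain ⟨b, hb⟩ := isNPC_bounded (hF 0)
  obtain ⟨E, hE, -, he⟩ := exists_strictPCAll_iso P hsum hqs hql (b + 1) F hF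
    (fun i hi => hb i (by omega))
  exact ⟨E, hE, he⟩

include hsum hqs hql in
/-- resolution of a complex quasi-isomorphic to a strictly pseudo-coherent one -/
theorem exists_strictPCAll_of_quasiIso (E Z : CochainComplex C ℤ) (hE : PCoh.IsStrictPCAll P E)
    (t : Z ⟶ E) (ht : QuasiIso t) :
    ∃ (E'' : CochainComplex C ℤ) (w : E'' ⟶ Z), PCoh.IsStrictPCAll P E'' ∧ QuasiIso w := by
  have hZ : PCoh.IsPC P (DerivedCategory.Q.obj Z) :=
    isPC_of_iso_D (asIso (DerivedCategory.Q.map t)).symm (strictPCAll_isPC hE)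
  obtain ⟨b, hb⟩ := hE.1
  have hac : ∀ i : ℤ, b + 1 ≤ i → IsZero (Z.homology i) := fun i hi =>
    IsZero.of_iso (isZero_homology_of_isZero_X E i (hb i (by omega))) (asIso (homologyMap t i))
  obtain ⟨E'', w, hE'', -, hw⟩ := exists_strictPCAll_quasiIso P hsum hqs hql Z hZ (b + 1) hac
  exact ⟨E'', w, hE'', hw⟩

include hsum hqs hql in
theorem full_strictPCAll (E E' : CochainComplex C ℤ) (hE : PCoh.IsStrictPCAll P E)
    (α : DerivedCategory.Q.obj E ⟶ DerivedCategory.Q.obj E') :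
    ∃ (E'' : CochainComplex C ℤ) (s : E'' ⟶ E) (f : E'' ⟶ E'), PCoh.IsStrictPCAll P E'' ∧
      QuasiIso s ∧ DerivedCategory.Q.map s ≫ α = DerivedCategory.Q.map f := by
  obtain ⟨Z, t, ht, g, hg⟩ := DerivedCategory.right_fac α
  have ht' : QuasiIso t := (DerivedCategory.isIso_Q_map_iff_quasiIso (φ := t)).1 ht
  obtain ⟨E'', w, hE'', hw⟩ := exists_strictPCAll_of_quasiIso P hsum hqs hql E Z hE t ht'
  refine ⟨E'', w ≫ t, w ≫ g, hE'', inferInstance, ?_⟩
  rw [hg, Functor.map_comp, Functor.map_comp]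
  simp

include hsum hqs hql in
theorem faithful_strictPCAll (E E' : CochainComplex C ℤ) (hE : PCoh.IsStrictPCAll P E)
    (f g : E ⟶ E') (hfg : DerivedCategory.Q.map f = DerivedCategory.Q.map g) :
    ∃ (E'' : CochainComplex C ℤ) (s : E'' ⟶ E), PCoh.IsStrictPCAll P E'' ∧ QuasiIso s ∧
      Nonempty (Homotopy (s ≫ f) (s ≫ g)) := by
  have h1 : DerivedCategory.Qh.map ((HomotopyCategory.quotient _ _).map f) =
      DerivedCategory.Qh.map ((HomotopyCategory.quotient _ _).map g) := by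
    have e1 := DerivedCategory.quotientCompQhIso_hom_naturality f
    have e2 := DerivedCategory.quotientCompQhIso_hom_naturality g
    rw [hfg, ← e2] at e1
    exact (cancel_mono _).1 e1
  obtain ⟨Z', s', hs', hs'fg⟩ := (MorphismProperty.map_eq_iff_precomp DerivedCategory.Qh
    (HomotopyCategory.quasiIso C (ComplexShape.up ℤ)) _ _).1 h1
  obtain ⟨Z, rfl⟩ := HomotopyCategory.quotient_obj_surjective Z'
  obtain ⟨t, rfl⟩ := (HomotopyCategory.quotient _ _).map_surjective s'
  rw [HomotopyCategory.quotient_map_mem_quasiIso_iff] at hs'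
  have ht : QuasiIso t := hs'
  rw [← Functor.map_comp, ← Functor.map_comp] at hs'fg
  have H : Homotopy (t ≫ f) (t ≫ g) := HomotopyCategory.homotopyOfEq _ _ hs'fg
  obtain ⟨E'', w, hE'', hw⟩ := exists_strictPCAll_of_quasiIso P hsum hqs hql E Z hE t ht
  refine ⟨E'', w ≫ t, hE'', inferInstance, ⟨?_⟩⟩
  have := H.compLeft w
  simpa only [Category.assoc] using this

end main

end Groth.Agent.H3.PCohLib
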