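import Mathlib
import Groth.Prelude.Def_PCoh

set_option autoImplicit false

open CategoryTheory CategoryTheory.Limits

universe v u

namespace Groth.Agent.H3.PCohLib

variable {C : Type u} [Category.{v} C] [Abelian C]

/-- precoherent objects: every morphism from an object of `P` has kernel of finite type -/
def IsPrecoh (P : ObjectProperty C) (X : C) : Prop :=
  ∀ (E : C) (u : E ⟶ X), P E → PCoh.IsOfFiniteType P (kernel u)

/-- the cokernel of a morphism from an object of finite type to a precoherent object is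
precoherent -/
theorem precoh_cokernel (P : ObjectProperty C)
    (hsum : ∀ X Y : C, P X → P Y → P (X ⨯ Y)) (hql : PCoh.IsQuasiLiftable P)
    (S : ShortComplex C) (hS : S.Exact) (hg : Epi S.g)
    (hF : PCoh.IsOfFiniteType P S.X₁) (hG : IsPrecoh P S.X₂) : IsPrecoh P S.X₃ := by
  intro E u hE
  obtain ⟨E', t, hE', ht⟩ := hql _ _ (pullback.snd S.g u) inferInstance hE
  let v : E' ⟶ S.X₂ := t ≫ pullback.fst S.g u
  let p : E' ⟶ E := t ≫ pullback.snd S.g u
  have hp : Epi p := ht
  have hvp : v ≫ S.g = p ≫ u := by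
    simp only [v, p, Category.assoc, pullback.condition]
  obtain ⟨E'', π, hE'', hπ⟩ := hF
  let φ : E' ⨯ E'' ⟶ S.X₂ := prod.fst ≫ v - prod.snd ≫ π ≫ S.f
  obtain ⟨E₃, q, hE₃, hq⟩ := hG _ φ (hsum _ _ hE' hE'')
  have hm0 : (kernel.ι φ ≫ prod.fst ≫ p) ≫ u = 0 := by
    have h1 : kernel.ι φ ≫ prod.fst ≫ v = kernel.ι φ ≫ prod.snd ≫ π ≫ S.f := by
      have := kernel.condition φ
      simp only [φ, Preadditive.comp_sub, sub_eq_zero] at this
      exact this
    rw [Category.assoc, Category.assoc, ← hvp, reassoc_of% h1]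
    simp
  let m : kernel φ ⟶ kernel u := kernel.lift u _ hm0
  have hm : m ≫ kernel.ι u = kernel.ι φ ≫ prod.fst ≫ p := kernel.lift_ι _ _ _
  have hmepi : Epi m := by
    rw [epi_iff_surjective_up_to_refinements]
    intro A y
    obtain ⟨A₁, π₁, hπ₁, x, hx⟩ := surjective_up_to_refinements_of_epi p (y ≫ kernel.ι u)
    have hx0 : (x ≫ v) ≫ S.g = 0 := by
      rw [Category.assoc, hvp, ← reassoc_of% hx, kernel.condition, comp_zero, comp_zero]
    obtain ⟨A₂, π₂, hπ₂, z, hz⟩ := hS.exact_up_to_refinements _ hx0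
    obtain ⟨A₃, π₃, hπ₃, z', hz'⟩ := surjective_up_to_refinements_of_epi π z
    have hk0 : prod.lift (π₃ ≫ π₂ ≫ x) z' ≫ φ = 0 := by
      simp only [φ, Preadditive.comp_sub, prod.lift_fst_assoc, prod.lift_snd_assoc, Category.assoc]
      rw [← reassoc_of% hz', ← hz]
      simp
    refine ⟨A₃, π₃ ≫ π₂ ≫ π₁, epi_comp _ _, kernel.lift φ _ hk0, ?_⟩
    rw [← cancel_mono (kernel.ι u)]
    simp only [Category.assoc, hm, kernel.lift_ι_assoc, prod.lift_fst_assoc, hx]
  exact ⟨E₃, q ≫ m, hE₃, epi_comp _ _⟩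

end Groth.Agent.H3.PCohLib
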