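import Mathlib
import Groth.Prelude.Def_PCoh
import Groth.Agent.Lib.Helper3.PCoh.NPC8
import Groth.Agent.Lib.Helper3.PCoh.Coh1

set_option autoImplicit false

open CategoryTheory CategoryTheory.Limits HomologicalComplex CochainComplex HomComplex ZeroObject
open Pretriangulated

universe w v u

namespace Groth.Agent.H3.PCohLib

variable {C : Type u} [Category.{v} C] [Abelian C]

section coh

variable (P : ObjectProperty C)

theorem IsPrecoh.of_mono {X' X : C} (j : X' ⟶ X) [Mono j] (h : IsPrecoh P X) : IsPrecoh P X' :=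
  fun E u hE => isOfFiniteType_of_iso P (kernelCompMono u j) (h E (u ≫ j) hE)

theorem IsPrecoh.of_iso {X Y : C} (e : X ≅ Y) (h : IsPrecoh P X) : IsPrecoh P Y :=
  IsPrecoh.of_mono P e.inv h

theorem isOfFiniteType_of_epi {X Y : C} (f : X ⟶ Y) [Epi f] (h : PCoh.IsOfFiniteType P X) :
    PCoh.IsOfFiniteType P Y := by
  obtain ⟨A, π, hA, hπ⟩ := h
  exact ⟨A, π ≫ f, hA, epi_comp _ _⟩

theorem isOfFiniteType_of_prop {X : C} (h : P X) : PCoh.IsOfFiniteType P X :=
  ⟨X, 𝟙 X, h, inferInstance⟩

end coh

section qs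

variable (P : ObjectProperty C) [P.IsClosedUnderIsomorphisms] [P.ContainsZero]
  (hcoh : ∀ (X E : C) (u : E ⟶ X), P X → P E → PCoh.IsOfFiniteType P (kernel u))

include hcoh in
/-- if the objects of `P` are precoherent then `P` is quasi-stable under kernels -/
theorem quasiStable_of_coh : PCoh.IsQuasiStableUnderKernels P := by
  intro K hex _ hP
  have := @isIso_toCycles_zero C _ _ (HasDerivedCategory.standard C) K (hex 0) (hex 1)
  have e2 : K.cycles 1 ≅ kernel (K.d 1 2) :=
    (K.cyclesIsKernel 1 2 (by simp)).conePointUniqueUpToIso (limit.isLimit _)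
  have e : K.X 0 ≅ kernel (K.d 1 2) := asIso (K.toCycles 0 1) ≪≫ e2
  exact isOfFiniteType_of_iso P e.symm (hcoh _ _ (K.d 1 2) (hP 2 (by omega)) (hP 1 le_rfl))

end qs

variable [HasDerivedCategory.{w} C]

section main

variable (P : ObjectProperty C) [P.IsClosedUnderIsomorphisms] [P.ContainsZero]
  (hsum : ∀ X Y : C, P X → P Y → P (X ⨯ Y)) (hql : PCoh.IsQuasiLiftable P)
  (hcoh : ∀ (X E : C) (u : E ⟶ X), P X → P E → PCoh.IsOfFiniteType P (kernel u))

/-- objects of `P` in degree `0` are `m`-pseudo-coherent for all `m` -/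
theorem isNPC_single_of_prop (m : ℤ) (E : C) (hE : P E) :
    IsNPC P m ((DerivedCategory.singleFunctor C 0).obj E) := by
  refine ⟨(HomologicalComplex.single C (ComplexShape.up ℤ) 0).obj E,
    ⟨⟨0, fun i hi => isZero_single_obj_X _ _ _ _ (by omega)⟩, fun i _ => ?_⟩, ⟨Iso.refl _⟩⟩
  by_cases hi : i = 0
  · subst hi; exact P.prop_of_iso (singleObjXSelf (ComplexShape.up ℤ) 0 E).symm hE
  · exact P.prop_of_isZero (isZero_single_obj_X _ _ _ _ hi)

include hql in
theorem isNPC_zero_single_of_ft (X : C) (h : PCoh.IsOfFiniteType P X) :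
    IsNPC P 0 ((DerivedCategory.singleFunctor C 0).obj X) := by
  have hac : ∀ i : ℤ, 0 < i → IsZero ((DerivedCategory.homologyFunctor C i).obj
      ((DerivedCategory.singleFunctor C 0).obj X)) := by
    intro i hi
    exact IsZero.of_iso (isZero_single_obj_homology (ComplexShape.up ℤ) 0 X i (by omega))
      (homIso ((HomologicalComplex.single C (ComplexShape.up ℤ) 0).obj X) i)
  exact isNPC_of_ft P hql 0 _ hac (isOfFiniteType_of_iso P
    ((DerivedCategory.singleFunctorCompHomologyFunctorIso C 0).app X).symm h)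

include hsum hql hcoh in
/-- coherent objects are pseudo-coherent -/
theorem isNPC_single_of_coh : ∀ (k : ℕ) (X : C), PCoh.IsOfFiniteType P X → IsPrecoh P X →
    IsNPC P (-(k : ℤ)) ((DerivedCategory.singleFunctor C 0).obj X) := by
  have hqs := quasiStable_of_coh P hcoh
  intro k
  induction k with
  | zero =>
    intro X hft _
    simpa using isNPC_zero_single_of_ft P hql X hft
  | succ k ih =>
    intro X hft hpre
    obtain ⟨E, π, hE, hπ⟩ := hft
    let S : ShortComplex C := ShortComplex.mk (kernel.ι π) π (kernel.condition π)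
    have hS : S.ShortExact :=
      { exact := ShortComplex.exact_kernel π
        mono_f := (inferInstance : Mono (kernel.ι π))
        epi_g := hπ }
    have hEpre : IsPrecoh P E := fun E' u hE' => hcoh E E' u hE hE'
    have hK := ih (kernel π) (hpre E π hE) (IsPrecoh.of_mono P (kernel.ι π) hEpre)
    have h1 : IsNPC P (-((k + 1 : ℕ) : ℤ) + 1) hS.singleTriangle.obj₁ := by
      have : -((k + 1 : ℕ) : ℤ) + 1 = -(k : ℤ) := by push_cast; ring
      rw [this]; exact hK
    exact isNPC_obj₃ P hsum hqs hql _ hS.singleTriangle hS.singleTriangle_distinguished h1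
      (isNPC_single_of_prop P _ E hE)

include hsum hql hcoh in
theorem isNPC_of_coh_homology (n : ℤ) (F : DerivedCategory C) (b : ℤ)
    (hb : ∀ i : ℤ, b < i → IsZero ((DerivedCategory.homologyFunctor C i).obj F))
    (hn : PCoh.IsOfFiniteType P ((DerivedCategory.homologyFunctor C n).obj F))
    (hi : ∀ i : ℤ, n < i → (PCoh.IsOfFiniteType P ((DerivedCategory.homologyFunctor C i).obj F) ∧
      IsPrecoh P ((DerivedCategory.homologyFunctor C i).obj F))) : IsNPC P n F := by
  have hqs := quasiStable_of_coh P hcoh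
  refine isNPC_of_homology P hsum hqs hql n F b hb (fun i hni => ?_)
  rcases eq_or_lt_of_le hni with rfl | hlt
  · simpa using isNPC_zero_single_of_ft P hql _ hn
  · have h := isNPC_single_of_coh P hsum hql hcoh (i - n).toNat _ (hi i hlt).1 (hi i hlt).2
    exact h.mono (by have := Int.toNat_of_nonneg (show 0 ≤ i - n by omega); omega)

include hsum hql hcoh in
theorem coh_homology_of_isNPC (n : ℤ) (F : DerivedCategory C) (h : IsNPC P n F) :
    PCoh.IsOfFiniteType P ((DerivedCategory.homologyFunctor C n).obj F) ∧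
      ∀ i : ℤ, n < i → (PCoh.IsOfFiniteType P ((DerivedCategory.homologyFunctor C i).obj F) ∧
        IsPrecoh P ((DerivedCategory.homologyFunctor C i).obj F)) := by
  obtain ⟨E₀, ⟨-, hP⟩, ⟨e⟩⟩ := h
  have hiso : ∀ i, E₀.homology i ≅ (DerivedCategory.homologyFunctor C i).obj F := fun i =>
    (homIso E₀ i).symm ≪≫ (DerivedCategory.homologyFunctor C i).mapIso e
  have hZ : ∀ i, n ≤ i → PCoh.IsOfFiniteType P (E₀.cycles i) := by
    intro i hi
    have e2 : E₀.cycles i ≅ kernel (E₀.d i (i + 1)) :=
      (E₀.cyclesIsKernel i (i + 1) (by simp)).conePointUniqueUpToIso (limit.isLimit _)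
    exact isOfFiniteType_of_iso P e2.symm (hcoh _ _ _ (hP _ (by omega)) (hP _ hi))
  have hH : ∀ i, n ≤ i → PCoh.IsOfFiniteType P (E₀.homology i) := fun i hi =>
    isOfFiniteType_of_epi P (E₀.homologyπ i) (hZ i hi)
  refine ⟨isOfFiniteType_of_iso P (hiso n) (hH n le_rfl), fun i hi => ⟨?_, ?_⟩⟩
  · exact isOfFiniteType_of_iso P (hiso i) (hH i hi.le)
  · refine IsPrecoh.of_iso P (hiso i) ?_
    let S : ShortComplex C := ShortComplex.mk (E₀.toCycles (i - 1) i) (E₀.homologyπ i)
      (E₀.toCycles_comp_homologyπ (i - 1) i)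
    have hS : S.Exact :=
      ShortComplex.exact_of_g_is_cokernel _ (E₀.homologyIsCokernel (i - 1) i (by simp))
    have hXpre : IsPrecoh P (E₀.X i) := fun E' u hE' => hcoh _ E' u (hP i hi.le) hE'
    exact precoh_cokernel P hsum hql S hS (inferInstanceAs (Epi (E₀.homologyπ i)))
      (isOfFiniteType_of_prop P (hP (i - 1) (by omega)))
      (IsPrecoh.of_mono P (E₀.iCycles i) hXpre)

end main

end Groth.Agent.H3.PCohLib
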