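import Mathlib
import Groth.Prelude.Def_PCoh
import Groth.Agent.Lib.Helper3.PCoh.Inf2
import Groth.Agent.Lib.Helper3.PCoh.Coh2
import Groth.Agent.S5621

set_option autoImplicit false

open CategoryTheory CategoryTheory.Limits HomologicalComplex CochainComplex HomComplex ZeroObject
open Pretriangulated

universe w v u

namespace Groth.Agent.H3.PCohLib

variable {C : Type u} [Category.{v} C] [Abelian C] [HasDerivedCategory.{w} C]

/-- perfect amplitude in `[a, b]` -/
def HasAmp (P : ObjectProperty C) (a b : ℤ) (F : DerivedCategory C) : Prop :=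
  ∃ E : CochainComplex C ℤ, (∀ i : ℤ, P (E.X i)) ∧ (∀ i : ℤ, i < a ∨ b < i → IsZero (E.X i)) ∧
    Nonempty (DerivedCategory.Q.obj E ≅ F)

theorem isZero_biprod {D : Type*} [Category D] [HasZeroMorphisms D] {A B : D}
    [HasBinaryBiproduct A B] (hA : IsZero A) (hB : IsZero B) : IsZero (A ⊞ B) := by
  rw [IsZero.iff_id_eq_zero]
  apply biprod.hom_ext
  · exact hA.eq_of_tgt _ _
  · exact hB.eq_of_tgt _ _

section main

variable (P : ObjectProperty C) [P.IsClosedUnderIsomorphisms] [P.ContainsZero]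
  (hsum : ∀ X Y : C, P X → P Y → P (X ⨯ Y))
  (hlift : ∀ (E F : C) (u : E ⟶ F), Epi u → P F → IsSplitEpi u)
  (hst : ∀ (E F : C) (u : E ⟶ F), Epi u → P E → P F → P (kernel u))

include hlift in
theorem quasiLiftable_of_lift : PCoh.IsQuasiLiftable P := fun E F u hu hF => by
  haveI := hlift E F u hu hF
  exact ⟨F, section_ u, hF, by rw [IsSplitEpi.id]; infer_instance⟩

include hst in
theorem quasiStable_of_lift : PCoh.IsQuasiStableUnderKernels P := by
  intro K hex hN hP
  obtain ⟨N, hN⟩ := hN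
  have hZ : ∀ (k i : ℕ), 1 ≤ i → N + 1 ≤ i + k → P (K.cycles i) := by
    intro k
    induction k with
    | zero =>
      intro i _ hi
      refine P.prop_of_isZero ?_
      rw [IsZero.iff_id_eq_zero, ← cancel_mono (K.iCycles i)]
      exact (hN i (by omega)).eq_of_tgt _ _
    | succ k ih =>
      intro i hi hik
      have hS := cyclesSC_shortExact K i (hex _)
      have hepi : Epi (K.toCycles i (i + 1)) := hS.epi_g
      have h1 := hst _ _ (K.toCycles i (i + 1)) hepi (hP i hi) (ih (i + 1) (by omega) (by omega))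
      have e : kernel (K.toCycles i (i + 1)) ≅ K.cycles i :=
        (limit.isLimit _).conePointUniqueUpToIso hS.fIsKernel
      exact P.prop_of_iso e h1
  have h1 := hZ N 1 le_rfl (by omega)
  have := isIso_toCycles_zero K (hex 0) (hex 1)
  exact isOfFiniteType_of_prop P (P.prop_of_iso (asIso (K.toCycles 0 1)).symm h1)

include hsum in
theorem hasAmp_biprod (a b : ℤ) (F' F'' : DerivedCategory C) [HasBinaryBiproduct F' F'']
    (h' : HasAmp P a b F') (h'' : HasAmp P a b F'') : HasAmp P a b (F' ⊞ F'') := by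
  obtain ⟨E', hP', hz', ⟨e'⟩⟩ := h'
  obtain ⟨E'', hP'', hz'', ⟨e''⟩⟩ := h''
  have eX : ∀ i, (E' ⊞ E'').X i ≅ E'.X i ⊞ E''.X i := fun i =>
    (HomologicalComplex.eval C (ComplexShape.up ℤ) i).mapBiprod E' E''
  haveI : PreservesBinaryBiproducts (DerivedCategory.Q : CochainComplex C ℤ ⥤ DerivedCategory C) :=
    preservesBinaryBiproducts_of_preservesBiproducts _
  refine ⟨E' ⊞ E'', fun i => ?_, fun i hi => ?_,
    ⟨DerivedCategory.Q.mapBiprod E' E'' ≪≫ biprod.mapIso e' e''⟩⟩
  · exact P.prop_of_iso (eX i ≪≫ biprod.isoProd _ _).symm (hsum _ _ (hP' i) (hP'' i))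
  · exact IsZero.of_iso (isZero_biprod (hz' i hi) (hz'' i hi)) (eX i)

include hsum hlift hst in
/-- a pseudo-coherent object with cohomology in `[a, b]` is represented by a complex in `[a, b]`
whose terms in degrees `> a` lie in `P` -/
theorem exists_almost_perfect (a b : ℤ) (hab : a ≤ b) (G : DerivedCategory C) (hG : PCoh.IsPC P G)
    (hz : ∀ i : ℤ, i < a ∨ b < i → IsZero ((DerivedCategory.homologyFunctor C i).obj G)) :
    ∃ T : CochainComplex C ℤ, (∀ i : ℤ, a < i → P (T.X i)) ∧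
      (∀ i : ℤ, i < a ∨ b < i → IsZero (T.X i)) ∧ Nonempty (DerivedCategory.Q.obj T ≅ G) := by
  have hql := quasiLiftable_of_lift P hlift
  have hqs := quasiStable_of_lift P hst
  obtain ⟨E', hE', hzE', ⟨eE⟩⟩ := exists_strictPCAll_iso P hsum hqs hql (b + 1) G hG
    (fun i hi => hz i (Or.inr (by omega)))
  have hiso : ∀ i, E'.homology i ≅ (DerivedCategory.homologyFunctor C i).obj G := fun i =>
    (homIso E' i).symm ≪≫ (DerivedCategory.homologyFunctor C i).mapIso eE
  haveI : E'.IsGE a := by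
    rw [CochainComplex.isGE_iff]
    intro i hi
    rw [exactAt_iff_isZero_homology]
    exact IsZero.of_iso (hz i (Or.inl hi)) (hiso i)
  refine ⟨E'.truncGE a, fun i hi => ?_, fun i hi => ?_,
    ⟨(asIso (DerivedCategory.Q.map (E'.πTruncGE a))).symm ≪≫ eE⟩⟩
  · exact P.prop_of_iso (E'.truncGEXIso a i hi).symm (hE'.2 i)
  · rcases hi with hi | hi
    · exact (E'.truncGE a).isZero_of_isStrictlyGE a i hi
    · exact IsZero.of_iso (hzE' i (by omega)) (E'.truncGEXIso a i (by omega))

include hsum hlift hst in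
theorem hasAmp_summand (a b : ℤ) (hab : a ≤ b)
    (hdf : ∀ (E' E'' : C) [HasBinaryBiproduct E' E''], P (E' ⊞ E'') → P E' ∧ P E'')
    (F' F'' : DerivedCategory C) [HasBinaryBiproduct F' F''] (h : HasAmp P a b (F' ⊞ F'')) :
    HasAmp P a b F' ∧ HasAmp P a b F'' := by
  have hql := quasiLiftable_of_lift P hlift
  have hqs := quasiStable_of_lift P hst
  obtain ⟨E, hPE, hzE, ⟨e⟩⟩ := h
  have hpcE : ∀ k, IsNPC P k (F' ⊞ F'') := fun k =>
    ⟨E, ⟨⟨b, fun i hi => hzE i (Or.inr hi)⟩, fun i _ => hPE i⟩, ⟨e⟩⟩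
  have hpc' : PCoh.IsPC P F' := fun k => (isNPC_summand P hsum hqs hql k F' F'' (hpcE k)).1
  have hpc'' : PCoh.IsPC P F'' := fun k => (isNPC_summand P hsum hqs hql k F' F'' (hpcE k)).2
  have hzH : ∀ i : ℤ, i < a ∨ b < i →
      IsZero ((DerivedCategory.homologyFunctor C i).obj (F' ⊞ F'')) := fun i hi =>
    IsZero.of_iso (isZero_homology_of_isZero_X E i (hzE i hi))
      ((DerivedCategory.homologyFunctor C i).mapIso e.symm ≪≫ homIso E i)
  have hzH' : ∀ i : ℤ, i < a ∨ b < i →
      IsZero ((DerivedCategory.homologyFunctor C i).obj F') := by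
    intro i hi
    have : 𝟙 ((DerivedCategory.homologyFunctor C i).obj F') =
        (DerivedCategory.homologyFunctor C i).map (biprod.inl : F' ⟶ F' ⊞ F'') ≫
          (DerivedCategory.homologyFunctor C i).map biprod.fst := by
      rw [← CategoryTheory.Functor.map_comp, biprod.inl_fst, CategoryTheory.Functor.map_id]
    rw [IsZero.iff_id_eq_zero, this,
      (hzH i hi).eq_of_tgt ((DerivedCategory.homologyFunctor C i).map biprod.inl) 0, zero_comp]
  have hzH'' : ∀ i : ℤ, i < a ∨ b < i →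
      IsZero ((DerivedCategory.homologyFunctor C i).obj F'') := by
    intro i hi
    have : 𝟙 ((DerivedCategory.homologyFunctor C i).obj F'') =
        (DerivedCategory.homologyFunctor C i).map (biprod.inr : F'' ⟶ F' ⊞ F'') ≫
          (DerivedCategory.homologyFunctor C i).map biprod.snd := by
      rw [← CategoryTheory.Functor.map_comp, biprod.inr_snd, CategoryTheory.Functor.map_id]
    rw [IsZero.iff_id_eq_zero, this,
      (hzH i hi).eq_of_tgt ((DerivedCategory.homologyFunctor C i).map biprod.inr) 0, zero_comp]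
  obtain ⟨T', hPT', hzT', ⟨eT'⟩⟩ := exists_almost_perfect P hsum hlift hst a b hab F' hpc' hzH'
  obtain ⟨T'', hPT'', hzT'', ⟨eT''⟩⟩ := exists_almost_perfect P hsum hlift hst a b hab F'' hpc'' hzH''
  have eX : ∀ i, (T' ⊞ T'').X i ≅ T'.X i ⊞ T''.X i := fun i =>
    (HomologicalComplex.eval C (ComplexShape.up ℤ) i).mapBiprod T' T''
  haveI : PreservesBinaryBiproducts (DerivedCategory.Q : CochainComplex C ℤ ⥤ DerivedCategory C) :=
    preservesBinaryBiproducts_of_preservesBiproducts _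
  have eQ : DerivedCategory.Q.obj E ≅ DerivedCategory.Q.obj (T' ⊞ T'') :=
    e ≪≫ (biprod.mapIso eT' eT'').symm ≪≫ (DerivedCategory.Q.mapBiprod T' T'').symm
  have hPa : P ((T' ⊞ T'').X a) := by
    refine Groth.Agent.S5621.result P hsum hlift hst a b hab (T' ⊞ T'') ?_ ?_ ⟨E, hPE, hzE, ⟨eQ⟩⟩
    · intro i hi
      exact IsZero.of_iso (isZero_biprod (hzT' i hi) (hzT'' i hi)) (eX i)
    · intro i hi
      exact P.prop_of_iso (eX i ≪≫ biprod.isoProd _ _).symm (hsum _ _ (hPT' i hi) (hPT'' i hi))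
  obtain ⟨hPa', hPa''⟩ := hdf (T'.X a) (T''.X a) (P.prop_of_iso (eX a) hPa)
  refine ⟨⟨T', fun i => ?_, hzT', ⟨eT'⟩⟩, ⟨T'', fun i => ?_, hzT'', ⟨eT''⟩⟩⟩
  · rcases lt_trichotomy i a with hi | rfl | hi
    · exact P.prop_of_isZero (hzT' i (Or.inl hi))
    · exact hPa'
    · exact hPT' i hi
  · rcases lt_trichotomy i a with hi | rfl | hi
    · exact P.prop_of_isZero (hzT'' i (Or.inl hi))
    · exact hPa''
    · exact hPT'' i hi

end main

end Groth.Agent.H3.PCohLib
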