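import Mathlib
import Groth.Prelude.Def_PCoh
import Groth.Agent.Lib.Helper3.PCoh.NPC8

set_option autoImplicit false

open CategoryTheory CategoryTheory.Limits HomologicalComplex CochainComplex HomComplex ZeroObject
open Pretriangulated

universe w v u w' v' u'

namespace Groth.Agent.H3.PCohLib

section peel

variable {C : Type u} [Category.{v} C] [Abelian C]

/-- peel off the top term of a bounded above complex -/
theorem exists_peel (E : CochainComplex C ℤ) (t : ℤ) (hb : ∀ i : ℤ, t < i → IsZero (E.X i)) :
    ∃ (K : CochainComplex C ℤ)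
      (ι : (HomologicalComplex.single C (ComplexShape.up ℤ) t).obj (E.X t) ⟶ E) (π : E ⟶ K)
      (w : ι ≫ π = 0), (ShortComplex.mk ι π w).ShortExact ∧ IsZero (K.X t) ∧
        ∀ i, i ≠ t → IsIso (π.f i) := by
  let ι : (HomologicalComplex.single C (ComplexShape.up ℤ) t).obj (E.X t) ⟶ E :=
    mkHomFromSingle (𝟙 _) (fun k hk => (hb k (by
      have : t + 1 = k := hk
      omega)).eq_of_tgt _ _)
  have hιb : IsIso (ι.f t) := by
    rw [mkHomFromSingle_f]; infer_instance
  have hιmono : Mono ι := by
    apply HomologicalComplex.mono_of_mono_f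
    intro i
    by_cases hi : i = t
    · subst hi; infer_instance
    · exact ⟨fun _ _ _ => (isZero_single_obj_X (ComplexShape.up ℤ) t (E.X t) i hi).eq_of_tgt _ _⟩
  let S : ShortComplex (CochainComplex C ℤ) :=
    ShortComplex.mk ι (cokernel.π ι) (cokernel.condition ι)
  have hS : S.ShortExact :=
    { exact := ShortComplex.exact_cokernel ι
      mono_f := hιmono
      epi_g := (inferInstance : Epi (cokernel.π ι)) }
  have hSi : ∀ i, (S.map (HomologicalComplex.eval C (ComplexShape.up ℤ) i)).ShortExact :=
    fun i => hS.map_of_exact _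
  exact ⟨cokernel ι, ι, cokernel.π ι, cokernel.condition ι, hS, (hSi t).isIso_f_iff.1 hιb,
    fun i hi => (hSi i).isIso_g_iff.2 (isZero_single_obj_X (ComplexShape.up ℤ) t (E.X t) i hi)⟩

end peel

section functor

variable {C : Type u} [Category.{v} C] [Abelian C] [HasDerivedCategory.{w} C]
  {C' : Type u'} [Category.{v'} C'] [Abelian C'] [HasDerivedCategory.{w'} C']

/-- cohomology of a shift -/
noncomputable def homShiftIso (X : DerivedCategory C) (k a a' : ℤ) (h : k + a = a') :
    (DerivedCategory.homologyFunctor C a).obj (X⟦k⟧) ≅ (DerivedCategory.homologyFunctor C a').obj X :=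
  ((DerivedCategory.homologyFunctor C 0).shiftIso k a a' h).app X

variable (u : DerivedCategory C ⥤ DerivedCategory C') [u.CommShift ℤ]

theorem acyclic_map (b : ℤ)
    (hii : ∀ F : DerivedCategory C,
      (∀ i : ℤ, 0 < i → IsZero ((DerivedCategory.homologyFunctor C i).obj F)) →
      ∀ i : ℤ, b < i → IsZero ((DerivedCategory.homologyFunctor C' i).obj (u.obj F)))
    (n : ℤ) (F : DerivedCategory C)
    (hac : ∀ i : ℤ, n < i → IsZero ((DerivedCategory.homologyFunctor C i).obj F)) :
    ∀ i : ℤ, n + b < i → IsZero ((DerivedCategory.homologyFunctor C' i).obj (u.obj F)) := by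
  intro i hi
  have h1 : ∀ j : ℤ, 0 < j → IsZero ((DerivedCategory.homologyFunctor C j).obj (F⟦n⟧)) :=
    fun j hj => IsZero.of_iso (hac (n + j) (by omega)) (homShiftIso F n j (n + j) rfl)
  have h2 := hii (F⟦n⟧) h1 (i - n) (by omega)
  have e : u.obj (F⟦n⟧) ≅ (u.obj F)⟦n⟧ := (u.commShiftIso n).app F
  exact IsZero.of_iso h2 ((homShiftIso (u.obj F) n (i - n) i (by omega)).symm ≪≫
    (DerivedCategory.homologyFunctor C' (i - n)).mapIso e.symm)

end functor

section functor2

variable {C : Type u} [Category.{v} C] [Abelian C] [HasDerivedCategory.{w} C]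
  (P : ObjectProperty C) [P.IsClosedUnderIsomorphisms] [P.ContainsZero]
  (hsum : ∀ X Y : C, P X → P Y → P (X ⨯ Y))
  (hqs : PCoh.IsQuasiStableUnderKernels P) (hql : PCoh.IsQuasiLiftable P)
  {C' : Type u'} [Category.{v'} C'] [Abelian C'] [HasDerivedCategory.{w'} C']
  (P' : ObjectProperty C') [P'.IsClosedUnderIsomorphisms] [P'.ContainsZero]
  (hsum' : ∀ X Y : C', P' X → P' Y → P' (X ⨯ Y))
  (hqs' : PCoh.IsQuasiStableUnderKernels P') (hql' : PCoh.IsQuasiLiftable P')
  (u : DerivedCategory C ⥤ DerivedCategory C') [u.CommShift ℤ] [u.IsTriangulated] (a b : ℤ)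
  (hi : ∀ E : C, P E → IsNPC P' a (u.obj ((DerivedCategory.singleFunctor C 0).obj E)))
  (hii : ∀ F : DerivedCategory C,
      (∀ i : ℤ, 0 < i → IsZero ((DerivedCategory.homologyFunctor C i).obj F)) →
      ∀ i : ℤ, b < i → IsZero ((DerivedCategory.homologyFunctor C' i).obj (u.obj F)))

include hi in
theorem isNPC_map_single (t : ℤ) (X : C) (hX : P X) :
    IsNPC P' (a + t) (u.obj (DerivedCategory.Q.obj
      ((HomologicalComplex.single C (ComplexShape.up ℤ) t).obj X))) := by
  have h1 := ((hi X hX).shift (-t)).mono (show a - (-t) ≤ a + t by omega)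
  have e1 : (u.obj ((DerivedCategory.singleFunctor C 0).obj X))⟦-t⟧ ≅
      u.obj (((DerivedCategory.singleFunctor C 0).obj X)⟦-t⟧) := ((u.commShiftIso (-t)).app _).symm
  have e2 : ((DerivedCategory.singleFunctor C 0).obj X)⟦-t⟧ ≅
      DerivedCategory.Q.obj ((HomologicalComplex.single C (ComplexShape.up ℤ) t).obj X) :=
    ((DerivedCategory.singleFunctors C).shiftIso (-t) t 0 (by simp)).app X
  exact h1.of_iso (e1 ≪≫ u.mapIso e2)

include hql' hii in
theorem isNPC_map_of_acyclic (N t : ℤ) (htN : t + b < N) (F : DerivedCategory C)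
    (hac : ∀ i : ℤ, t < i → IsZero ((DerivedCategory.homologyFunctor C i).obj F)) :
    IsNPC P' N (u.obj F) := by
  have h := acyclic_map u b hii t F hac
  exact isNPC_of_ft P' hql' N _ (fun i hi => h i (by omega))
    (isOfFiniteType_of_isZero P' (h N htN))

include hsum' hqs' hql' hi hii in
theorem isNPC_map_aux (m n N : ℤ) (hN1 : m + b ≤ N) (hN2 : n + a ≤ N) :
    ∀ (k : ℕ) (E : CochainComplex C ℤ) (t : ℤ), t < m + k → t ≤ n →
      (∀ i : ℤ, t < i → IsZero (E.X i)) → (∀ i : ℤ, m ≤ i → P (E.X i)) →
      IsNPC P' N (u.obj (DerivedCategory.Q.obj E)) := by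
  have triv : ∀ (E : CochainComplex C ℤ) (t : ℤ), t < m → (∀ i : ℤ, t < i → IsZero (E.X i)) →
      IsNPC P' N (u.obj (DerivedCategory.Q.obj E)) := by
    intro E t htm hb
    refine isNPC_map_of_acyclic P' hql' u b hii N t (by omega) _ (fun i hi => ?_)
    exact IsZero.of_iso (isZero_homology_of_isZero_X E i (hb i hi)) (homIso E i)
  intro k
  induction k with
  | zero => intro E t htm _ hb _; exact triv E t (by simpa using htm) hb
  | succ k ih =>
    intro E t htk htn hb hP
    by_cases htm : t < m
    · exact triv E t htm hb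
    obtain ⟨K, ι, π, w, hS, hKt, hπ⟩ := exists_peel E t hb
    have hT := u.map_distinguished _ (DerivedCategory.triangleOfSES_distinguished hS)
    have h1 : IsNPC P' N (u.obj (DerivedCategory.Q.obj
        ((HomologicalComplex.single C (ComplexShape.up ℤ) t).obj (E.X t)))) :=
      (isNPC_map_single P P' u a hi t (E.X t) (hP t (by omega))).mono (by omega)
    have h3 : IsNPC P' N (u.obj (DerivedCategory.Q.obj K)) := by
      refine ih K (t - 1) (by push_cast at htk; omega) (by omega) ?_ ?_
      · intro i hi'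
        by_cases hit : i = t
        · subst hit; exact hKt
        · have := hπ i hit
          exact IsZero.of_iso (hb i (by omega)) (asIso (π.f i)).symm
      · intro i hi'
        by_cases hit : i = t
        · subst hit; exact P.prop_of_isZero hKt
        · have := hπ i hit
          exact P.prop_of_iso (asIso (π.f i)) (hP i hi')
    exact isNPC_obj₂ P' hsum' hqs' hql' N _ hT h1 h3

include hsum hqs hql hsum' hqs' hql' hi hii in
theorem isNPC_map (m n : ℤ) (F : DerivedCategory C) (hF : IsNPC P m F)
    (hac : ∀ i : ℤ, n < i → IsZero ((DerivedCategory.homologyFunctor C i).obj F)) :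
    IsNPC P' (max (m + b) (n + a)) (u.obj F) := by
  by_cases hmn : n < m
  · exact isNPC_map_of_acyclic P' hql' u b hii _ n (by omega) F hac
  · obtain ⟨E, hE, hEz, ⟨e⟩⟩ := exists_strictPC_bounded P hsum hqs hql m (n + 1) (by omega) F hF
      (fun i hi => hac i (by omega))
    have := isNPC_map_aux P P' hsum' hqs' hql' u a b hi hii m n (max (m + b) (n + a))
      (le_max_left _ _) (le_max_right _ _) (n - m + 1).toNat E n (by omega) le_rfl
      (fun i hi => hEz i (by omega)) hE.2
    exact this.of_iso (u.mapIso e)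

end functor2

end Groth.Agent.H3.PCohLib
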