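import Mathlib
import Groth.Agent.Lib.Helper3.PCoh.Factor

/-!
# Resolutions of unbounded complexes by objects of a class `P` (Hartshorne RD I.4.6)
Part 1: the cocone step.
-/

set_option autoImplicit false

open CategoryTheory CategoryTheory.Limits HomologicalComplex CochainComplex HomComplex

universe v u

namespace Groth.Agent.H3.RDRes

variable {C : Type u} [Category.{v} C] [Abelian C]

section step

variable (S : ShortComplex (CochainComplex C ℤ)) (hS : S.ShortExact)
  {L' : CochainComplex C ℤ} (q' : S.X₃ ⟶ L')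

/-- the cocycle `X₁⟦1⟧ → X₂` of degree one induced by `S.f` -/
noncomputable def alpha : Cocycle (S.X₁⟦(1 : ℤ)⟧) S.X₂ 1 :=
  (Cocycle.ofHom S.f).leftShift 1 1 (zero_add 1)

lemma alpha_comp : (alpha S).1.comp (Cochain.ofHom (S.g ≫ q')) (add_zero 1) = 0 := by
  ext p q hpq
  simp only [Cochain.comp_zero_cochain_v, Cochain.ofHom_v, Cochain.zero_v, alpha,
    Cocycle.leftShift_coe, Cocycle.ofHom_coe]
  rw [Cochain.leftShift_v _ 1 1 (zero_add 1) p q hpq q (by omega)]
  simp only [Cochain.ofHom_v, Linear.units_smul_comp, Category.assoc, comp_f]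
  have : S.f.f q ≫ S.g.f q = 0 := by rw [← comp_f, S.zero, zero_f]
  rw [reassoc_of% this, zero_comp, comp_zero, smul_zero]

/-- the map `X₁⟦1⟧ ⟶ cone (X₂ ⟶ X₃ ⟶ L')` -/
noncomputable def gmap : S.X₁⟦(1 : ℤ)⟧ ⟶ mappingCone (S.g ≫ q') :=
  mappingCone.lift (S.g ≫ q') (alpha S) 0 (by rw [δ_zero, zero_add, alpha_comp])

/-- the map `cone (X₂ ⟶ L') ⟶ cone (X₃ ⟶ L')` -/
noncomputable def Mmap : mappingCone (S.g ≫ q') ⟶ mappingCone q' :=
  mappingCone.map (S.g ≫ q') q' S.g (𝟙 L') (by simp)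

variable {S} in
lemma gmap_fst (p q : ℤ) (hpq : p + 1 = q) :
    (gmap S q').f p ≫ (mappingCone.fst (S.g ≫ q')).1.v p q hpq = (alpha S).1.v p q hpq :=
  mappingCone.lift_f_fst_v _ _ _ _ p q hpq

lemma gmap_snd (p : ℤ) :
    (gmap S q').f p ≫ (mappingCone.snd (S.g ≫ q')).v p p (add_zero p) = 0 := by
  have := mappingCone.lift_f_snd_v (S.g ≫ q') (alpha S) 0
    (by rw [δ_zero, zero_add, alpha_comp]) p p (add_zero p)
  rw [Cochain.zero_v] at this
  exact this

lemma alpha_v (p q : ℤ) (hpq : p + 1 = q) :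
    (alpha S).1.v p q hpq =
      ((1 : ℤ) * 1 + (1 * (1 - 1)) / 2).negOnePow •
        ((S.X₁.shiftFunctorObjXIso 1 p q (by omega)).hom ≫ S.f.f q) := by
  simp only [alpha, Cocycle.leftShift_coe, Cocycle.ofHom_coe]
  rw [Cochain.leftShift_v _ 1 1 (zero_add 1) p q hpq q (by omega)]
  simp

lemma inl_Mmap (p q : ℤ) (hpq : p + 1 = q) :
    (mappingCone.inl (S.g ≫ q')).v q p (by omega) ≫ (Mmap S q').f p =
      S.g.f q ≫ (mappingCone.inl q').v q p (by omega) := by
  simp [Mmap, mappingCone.map]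

lemma inr_Mmap (p : ℤ) :
    (mappingCone.inr (S.g ≫ q')).f p ≫ (Mmap S q').f p = (mappingCone.inr q').f p := by
  simp [Mmap, mappingCone.map]

lemma Mmap_fst (p q : ℤ) (hpq : p + 1 = q) :
    (Mmap S q').f p ≫ (mappingCone.fst q').1.v p q hpq =
      (mappingCone.fst (S.g ≫ q')).1.v p q hpq ≫ S.g.f q := by
  apply mappingCone.ext_from (S.g ≫ q') q p (by omega)
  · rw [reassoc_of% (inl_Mmap S q' p q hpq)]
    simp
  · rw [reassoc_of% (inr_Mmap S q' p)]
    simp

lemma Mmap_snd (p : ℤ) :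
    (Mmap S q').f p ≫ (mappingCone.snd q').v p p (add_zero p) =
      (mappingCone.snd (S.g ≫ q')).v p p (add_zero p) := by
  apply mappingCone.ext_from (S.g ≫ q') (p + 1) p rfl
  · rw [reassoc_of% (inl_Mmap S q' p (p + 1) rfl)]
    simp
  · rw [reassoc_of% (inr_Mmap S q' p)]
    simp

lemma gmap_Mmap : gmap S q' ≫ Mmap S q' = 0 := by
  ext p
  apply mappingCone.ext_to q' p (p + 1) rfl
  · rw [comp_f, Category.assoc, Mmap_fst S q' p (p + 1) rfl, reassoc_of% (gmap_fst q' p (p + 1) rfl),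
      alpha_v]
    have : S.f.f (p + 1) ≫ S.g.f (p + 1) = 0 := by rw [← comp_f, S.zero, zero_f]
    simp only [Linear.units_smul_comp, Category.assoc, this, comp_zero, smul_zero, zero_f, zero_comp]
  · rw [comp_f, Category.assoc, Mmap_snd, gmap_snd, zero_f, zero_comp]

lemma alpha_v' (p q : ℤ) (hpq : p + 1 = q) :
    (alpha S).1.v p q hpq =
      -((S.X₁.shiftFunctorObjXIso 1 p q (by omega)).hom ≫ S.f.f q) := by
  rw [alpha_v]
  simp

include hS in
lemma shortExact_gM :
    (ShortComplex.mk (gmap S q') (Mmap S q') (gmap_Mmap S q')).ShortExact := by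
  apply HomologicalComplex.shortExact_of_degreewise_shortExact
  intro p
  have hSq : (S.map (eval C _ (p + 1))).ShortExact := hS.map_of_exact (eval C _ (p + 1))
  have hm : Mono (S.f.f (p + 1)) := hSq.mono_f
  have he : Epi (S.g.f (p + 1)) := hSq.epi_g
  have hfac : (gmap S q').f p ≫ (-(mappingCone.fst (S.g ≫ q')).1.v p (p + 1) rfl) =
      (S.X₁.shiftFunctorObjXIso 1 p (p + 1) (by omega)).hom ≫ S.f.f (p + 1) := by
    rw [Preadditive.comp_neg, gmap_fst, alpha_v', neg_neg]
  have hmono : Mono ((gmap S q').f p) := mono_of_mono_fac hfac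
  have hepi : Epi ((Mmap S q').f p) := by
    apply Preadditive.epi_of_cancel_zero
    intro T t ht
    apply mappingCone.ext_from q' (p + 1) p rfl
    · have h1 := inl_Mmap S q' p (p + 1) rfl
      have h2 : S.g.f (p + 1) ≫ (mappingCone.inl q').v (p + 1) p (by omega) ≫ t = 0 := by
        rw [← reassoc_of% h1, ht, comp_zero]
      rw [comp_zero]
      exact (cancel_epi (S.g.f (p + 1))).1 (h2.trans comp_zero.symm)
    · rw [← reassoc_of% (inr_Mmap S q' p), ht, comp_zero, comp_zero]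
  refine { exact := ?_, mono_f := hmono, epi_g := hepi }
  apply ShortComplex.exact_of_f_is_kernel
  haveI : Mono ((ShortComplex.mk (gmap S q') (Mmap S q') (gmap_Mmap S q')).map
      (eval C _ p)).f := hmono
  refine KernelFork.IsLimit.ofι' _ _
    (fun {W} (z : W ⟶ (mappingCone (S.g ≫ q')).X p) (hz : z ≫ (Mmap S q').f p = 0) => ?_)
  have h1 : (z ≫ (mappingCone.fst (S.g ≫ q')).1.v p (p + 1) rfl) ≫ S.g.f (p + 1) = 0 := by
    have e := Mmap_fst S q' p (p + 1) rfl
    rw [Category.assoc, ← e, ← Category.assoc, hz, zero_comp]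
  haveI : Mono (S.map (eval C _ (p + 1))).f := hSq.mono_f
  let w : W ⟶ S.X₁.X (p + 1) := hSq.exact.lift _ h1
  have hw : w ≫ S.f.f (p + 1) = z ≫ (mappingCone.fst (S.g ≫ q')).1.v p (p + 1) rfl :=
    hSq.exact.lift_f _ h1
  refine ⟨-(w ≫ (S.X₁.shiftFunctorObjXIso 1 p (p + 1) (by omega)).inv), ?_⟩
  change _ ≫ (gmap S q').f p = z
  apply mappingCone.ext_to (S.g ≫ q') p (p + 1) rfl
  · rw [Category.assoc, gmap_fst, alpha_v']
    simp only [Preadditive.neg_comp, Preadditive.comp_neg, neg_neg, Category.assoc,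
      Iso.inv_hom_id_assoc, hw]
  · rw [Category.assoc, gmap_snd, comp_zero, ← Mmap_snd S q' p, reassoc_of% hz, zero_comp]

include hS in
theorem quasiIso_gmap [QuasiIso q'] : QuasiIso (gmap S q') := by
  letI : HasDerivedCategory.{max u v} C := HasDerivedCategory.standard C
  refine Groth.Agent.H3.PCohLib.quasiIso_f_of_acyclic_X₃ _ (shortExact_gM S hS q') ?_
  intro i
  rw [exactAt_iff_isZero_homology]
  exact Groth.Agent.H3.PerfAux.mappingCone_acyclic_of_quasiIso q' i

end step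

end Groth.Agent.H3.RDRes
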