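import Mathlib
import Groth.Agent.Lib.Helper3.PCoh.RDRes1

/-!
# Resolutions of unbounded complexes by objects of a class `P` (Hartshorne RD I.4.6)
Part 2: closure properties and the step theorem.
-/

set_option autoImplicit false

open CategoryTheory CategoryTheory.Limits HomologicalComplex CochainComplex HomComplex ZeroObject

universe v u

namespace Groth.Agent.H3.RDRes

variable {C : Type u} [Category.{v} C] [Abelian C]

section closure

variable (P : ObjectProperty C)
  (h1 : ∀ X : C, ∃ (Y : C) (i : X ⟶ Y), P Y ∧ Mono i)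
  (h2 : ∀ S : ShortComplex C, S.ShortExact → P S.X₁ → (P S.X₂ ↔ P S.X₃))

include h1 h2 in
theorem prop_of_isZero {Z : C} (hZ : IsZero Z) : P Z := by
  obtain ⟨Y, -, hY, -⟩ := h1 Z
  let S : ShortComplex C := ShortComplex.mk (𝟙 Y) (0 : Y ⟶ Z) (by simp)
  have hS : S.ShortExact :=
    { exact := (ShortComplex.exact_iff_epi S rfl).2 (inferInstance : Epi (𝟙 Y))
      mono_f := (inferInstance : Mono (𝟙 Y))
      epi_g := ⟨fun _ _ _ => hZ.eq_of_src _ _⟩ }
  exact (h2 S hS hY).1 hY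

include h1 h2 in
theorem prop_of_iso {X Y : C} (e : X ≅ Y) (hX : P X) : P Y := by
  let S : ShortComplex C := ShortComplex.mk e.hom (0 : Y ⟶ (0 : C)) (by simp)
  have hS : S.ShortExact :=
    { exact := (ShortComplex.exact_iff_epi S rfl).2 (inferInstance : Epi e.hom)
      mono_f := (inferInstance : Mono e.hom)
      epi_g := ⟨fun a b _ => (isZero_zero C).eq_of_src a b⟩ }
  exact (h2 S hS hX).2 (prop_of_isZero P h1 h2 (isZero_zero C))

include h2 in
theorem prop_X₂ (S : ShortComplex C) (hS : S.ShortExact) (hX₁ : P S.X₁) (hX₃ : P S.X₃) :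
    P S.X₂ := (h2 S hS hX₁).2 hX₃

/-- the degreewise split short exact sequence of a mapping cone -/
noncomputable def coneSC {K L : CochainComplex C ℤ} (φ : K ⟶ L) (p : ℤ) : ShortComplex C :=
  ShortComplex.mk ((mappingCone.inr φ).f p) ((mappingCone.fst φ).1.v p (p + 1) rfl)
    (mappingCone.inr_f_fst_v φ p (p + 1) rfl)

noncomputable def coneSplitting {K L : CochainComplex C ℤ} (φ : K ⟶ L) (p : ℤ) :
    (coneSC φ p).Splitting where
  r := (mappingCone.snd φ).v p p (add_zero p)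
  s := (mappingCone.inl φ).v (p + 1) p (by omega)
  f_r := mappingCone.inr_f_snd_v φ p
  s_g := mappingCone.inl_v_fst_v φ (p + 1) p (by omega)
  id := (add_comm _ _).trans (mappingCone.id_X φ p (p + 1) rfl)

include h2 in
theorem prop_cone {K L : CochainComplex C ℤ} (φ : K ⟶ L) (p : ℤ) (hL : P (L.X p))
    (hK : P (K.X (p + 1))) : P ((mappingCone φ).X p) :=
  prop_X₂ P h2 (coneSC φ p) (coneSplitting φ p).shortExact hL hK

include h2 in
/-- **The step**: a short exact sequence `0 → X₁ → X₂ → X₃ → 0` with `X₂` termwise in `P` and a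
quasi-isomorphism from `X₃` to a complex termwise in `P` give such a quasi-isomorphism from `X₁`. -/
theorem step (S : ShortComplex (CochainComplex C ℤ)) (hS : S.ShortExact)
    (hJ : ∀ k, P (S.X₂.X k)) {L' : CochainComplex C ℤ} (q' : S.X₃ ⟶ L') [QuasiIso q']
    (hL' : ∀ k, P (L'.X k)) :
    ∃ (L : CochainComplex C ℤ) (f : S.X₁ ⟶ L), QuasiIso f ∧ ∀ k, P (L.X k) := by
  have hg : QuasiIso (gmap S q') := quasiIso_gmap S hS q'
  have hg' : QuasiIso ((gmap S q')⟦(-1 : ℤ)⟧') := (quasiIso_shift_iff _ _).2 hg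
  let e : S.X₁ ≅ (S.X₁⟦(1 : ℤ)⟧)⟦(-1 : ℤ)⟧ :=
    ((shiftFunctorCompIsoId (CochainComplex C ℤ) (1 : ℤ) (-1 : ℤ) (add_neg_cancel 1)).app S.X₁).symm
  refine ⟨(mappingCone (S.g ≫ q'))⟦(-1 : ℤ)⟧, e.hom ≫ (gmap S q')⟦(-1 : ℤ)⟧', inferInstance, ?_⟩
  intro k
  change P ((mappingCone (S.g ≫ q')).X (k + -1))
  refine prop_cone P h2 _ _ (hL' _) (hJ _)

end closure

end Groth.Agent.H3.RDRes
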