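import Mathlib
import Groth.Agent.Lib.Helper3.PCoh.RDRes2

/-!
# Resolutions of unbounded complexes by objects of a class `P` (Hartshorne RD I.4.6)
Part 3: embedding a complex into a complex with terms in `P`.
-/

set_option autoImplicit false

open CategoryTheory CategoryTheory.Limits HomologicalComplex CochainComplex HomComplex ZeroObject

universe v u

namespace Groth.Agent.H3.RDRes

variable {C : Type u} [Category.{v} C] [Abelian C]

section embed

variable (P : ObjectProperty C)
  (h1 : ∀ X : C, ∃ (Y : C) (i : X ⟶ Y), P Y ∧ Mono i)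
  (h2 : ∀ S : ShortComplex C, S.ShortExact → P S.X₁ → (P S.X₂ ↔ P S.X₃))

/-- the chosen `P`-object containing `X` -/
noncomputable def Yc (X : C) : C := (h1 X).choose

/-- the chosen embedding -/
noncomputable def iY (X : C) : X ⟶ Yc P h1 X := (h1 X).choose_spec.choose

lemma Yc_prop (X : C) : P (Yc P h1 X) := (h1 X).choose_spec.choose_spec.1

instance mono_iY (X : C) : Mono (iY P h1 X) := (h1 X).choose_spec.choose_spec.2

variable (K : CochainComplex C ℤ)

/-- the complex `Y(Kᵏ) ⊞ Y(Kᵏ⁺¹)` with differential `(a, b) ↦ (b, 0)` -/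
noncomputable abbrev Jc : CochainComplex C ℤ :=
  CochainComplex.of (fun k => Yc P h1 (K.X k) ⊞ Yc P h1 (K.X (k + 1)))
    (fun _ => biprod.snd ≫ biprod.inl) (fun _ => by simp)

lemma Jc_d (k : ℤ) : (Jc P h1 K).d k (k + 1) = biprod.snd ≫ biprod.inl :=
  CochainComplex.of_d (fun k => Yc P h1 (K.X k) ⊞ Yc P h1 (K.X (k + 1)))
    (fun _ => biprod.snd ≫ biprod.inl) k

/-- the embedding `K ⟶ Jc K` -/
noncomputable def ιc : K ⟶ Jc P h1 K :=
  CochainComplex.ofHom
    (fun k => biprod.lift (iY P h1 (K.X k)) (K.d k (k + 1) ≫ iY P h1 (K.X (k + 1))))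
    (fun k => by
      rw [Jc_d]
      apply biprod.hom_ext
      · simp
      · simp)

instance mono_ιc_f (k : ℤ) : Mono ((ιc P h1 K).f k) := by
  have : (ιc P h1 K).f k ≫ biprod.fst = iY P h1 (K.X k) := by
    simp [ιc]
  exact mono_of_mono_fac this

instance mono_ιc : Mono (ιc P h1 K) := mono_of_mono_f _ (fun k => inferInstance)

include h2 in
lemma Jc_prop (k : ℤ) : P ((Jc P h1 K).X k) :=
  prop_X₂ P h2 _ (ShortComplex.Splitting.ofHasBinaryBiproduct _ _).shortExact
    (Yc_prop P h1 _) (Yc_prop P h1 _)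

end embed

end Groth.Agent.H3.RDRes
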