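import Mathlib
import Groth.Agent.Lib.Helper3.PCoh.RDRes3

/-!
# Resolutions of unbounded complexes by objects of a class `P` (Hartshorne RD I.4.6)
Part 4: the tower and the final theorem.
-/

set_option autoImplicit false

open CategoryTheory CategoryTheory.Limits HomologicalComplex CochainComplex HomComplex ZeroObject

universe v u

namespace Groth.Agent.H3.RDRes

variable {C : Type u} [Category.{v} C] [Abelian C]

lemma exact_comp {X₀ X₁ X₂ X₃ X₄ : C} (p : X₀ ⟶ X₁) [Epi p] (i : X₁ ⟶ X₂) (q : X₂ ⟶ X₃)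
    (w : i ≫ q = 0) (hex : (ShortComplex.mk i q w).Exact) (m : X₃ ⟶ X₄) [Mono m] :
    (ShortComplex.mk (p ≫ i) (q ≫ m) (by rw [Category.assoc, reassoc_of% w, zero_comp, comp_zero])).Exact := by
  let S₀ : ShortComplex C := ShortComplex.mk i q w
  let S₁ : ShortComplex C := ShortComplex.mk (p ≫ i) q (by rw [Category.assoc, w, comp_zero])
  let S₂ : ShortComplex C := ShortComplex.mk (p ≫ i) (q ≫ m)
    (by rw [Category.assoc, reassoc_of% w, zero_comp, comp_zero])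
  let φ₁ : S₁ ⟶ S₀ := { τ₁ := p, τ₂ := 𝟙 _, τ₃ := 𝟙 _ }
  let φ₂ : S₁ ⟶ S₂ := { τ₁ := 𝟙 _, τ₂ := 𝟙 _, τ₃ := m }
  haveI : Epi φ₁.τ₁ := (inferInstance : Epi p)
  haveI : IsIso φ₁.τ₂ := (inferInstance : IsIso (𝟙 X₂))
  haveI : Mono φ₁.τ₃ := (inferInstance : Mono (𝟙 X₃))
  haveI : Epi φ₂.τ₁ := (inferInstance : Epi (𝟙 X₀))
  haveI : IsIso φ₂.τ₂ := (inferInstance : IsIso (𝟙 X₂))
  haveI : Mono φ₂.τ₃ := (inferInstance : Mono m)
  have h1 : S₁.Exact := (ShortComplex.exact_iff_of_epi_of_isIso_of_mono φ₁).2 hex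
  exact (ShortComplex.exact_iff_of_epi_of_isIso_of_mono φ₂).1 h1

lemma exact_mk_congr {X₁ X₂ X₃ : C} {f f' : X₁ ⟶ X₂} {g g' : X₂ ⟶ X₃} (w : f ≫ g = 0)
    (w' : f' ≫ g' = 0) (hf : f = f') (hg : g = g') (h : (ShortComplex.mk f' g' w').Exact) :
    (ShortComplex.mk f g w).Exact := by
  subst hf hg; exact h

section tower

variable (P : ObjectProperty C)
  (h1 : ∀ X : C, ∃ (Y : C) (i : X ⟶ Y), P Y ∧ Mono i)
  (h2 : ∀ S : ShortComplex C, S.ShortExact → P S.X₁ → (P S.X₂ ↔ P S.X₃))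
  (n : ℕ)

/-- the stage embedding: into a `P`-complex for `j < n`, the identity afterwards -/
noncomputable def emb (j : ℕ) (Q : CochainComplex C ℤ) : Σ' J : CochainComplex C ℤ, Q ⟶ J :=
  if j < n then ⟨Jc P h1 Q, ιc P h1 Q⟩ else ⟨Q, 𝟙 Q⟩

lemma emb_of_lt {j : ℕ} (h : j < n) (Q : CochainComplex C ℤ) :
    emb P h1 n j Q = ⟨Jc P h1 Q, ιc P h1 Q⟩ := if_pos h

lemma emb_of_ge {j : ℕ} (h : ¬ j < n) (Q : CochainComplex C ℤ) :
    emb P h1 n j Q = ⟨Q, 𝟙 Q⟩ := if_neg h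

instance mono_emb (j : ℕ) (Q : CochainComplex C ℤ) : Mono (emb P h1 n j Q).2 := by
  by_cases h : j < n
  · rw [emb_of_lt P h1 n h]; exact mono_ιc P h1 Q
  · rw [emb_of_ge P h1 n h]; exact (inferInstance : Mono (𝟙 Q))

lemma isIso_emb {j : ℕ} (h : ¬ j < n) (Q : CochainComplex C ℤ) : IsIso (emb P h1 n j Q).2 := by
  rw [emb_of_ge P h1 n h]; exact (inferInstance : IsIso (𝟙 Q))

include h2 in
lemma emb_prop {j : ℕ} (h : j < n) (Q : CochainComplex C ℤ) (k : ℤ) :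
    P ((emb P h1 n j Q).1.X k) := by
  rw [emb_of_lt P h1 n h]; exact Jc_prop P h1 h2 Q k

variable (X : CochainComplex C ℤ)

/-- the tower of cokernels -/
noncomputable def Qs : ℕ → CochainComplex C ℤ
  | 0 => X
  | j + 1 => cokernel (emb P h1 n j (Qs j)).2

/-- the `j`-th embedding target -/
noncomputable abbrev Js (j : ℕ) : CochainComplex C ℤ := (emb P h1 n j (Qs P h1 n X j)).1

noncomputable abbrev ιs (j : ℕ) : Qs P h1 n X j ⟶ Js P h1 n X j := (emb P h1 n j (Qs P h1 n X j)).2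

noncomputable abbrev πs (j : ℕ) : Js P h1 n X j ⟶ Qs P h1 n X (j + 1) :=
  cokernel.π (ιs P h1 n X j)

/-- the short exact sequences of the tower -/
noncomputable def sesS (j : ℕ) : ShortComplex (CochainComplex C ℤ) :=
  ShortComplex.mk (ιs P h1 n X j) (πs P h1 n X j) (cokernel.condition _)

lemma sesS_shortExact (j : ℕ) : (sesS P h1 n X j).ShortExact :=
  { exact := ShortComplex.exact_cokernel _
    mono_f := mono_emb P h1 n j _
    epi_g := (inferInstance : Epi (cokernel.π (ιs P h1 n X j))) }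

lemma ιs_πs_f (j : ℕ) (k : ℤ) : (ιs P h1 n X j).f k ≫ (πs P h1 n X j).f k = 0 := by
  have h := cokernel.condition (ιs P h1 n X j)
  rw [← comp_f]
  exact congrArg (fun φ => φ.f k) h

/-- the degree `k` part of the tower, as an `ℕ`-indexed cochain complex -/
noncomputable def Kk (k : ℤ) : CochainComplex C ℕ :=
  CochainComplex.of (fun j => (Js P h1 n X j).X k)
    (fun j => (πs P h1 n X j).f k ≫ (ιs P h1 n X (j + 1)).f k)
    (fun j => by
      rw [Category.assoc, reassoc_of% (ιs_πs_f P h1 n X (j + 1) k)]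
      simp)

lemma Kk_d (k : ℤ) (j : ℕ) : (Kk P h1 n X k).d j (j + 1) =
    (πs P h1 n X j).f k ≫ (ιs P h1 n X (j + 1)).f k :=
  CochainComplex.of_d (fun j => (Js P h1 n X j).X k)
    (fun j => (πs P h1 n X j).f k ≫ (ιs P h1 n X (j + 1)).f k) j

lemma Kk_exactAt (k : ℤ) (j : ℕ) : (Kk P h1 n X k).ExactAt (j + 1) := by
  rw [HomologicalComplex.exactAt_iff' _ j (j + 1) (j + 1 + 1) (by simp) (by simp)]
  have hS := (sesS_shortExact P h1 n X (j + 1)).map_of_exact (eval C _ k)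
  have hex : (ShortComplex.mk ((ιs P h1 n X (j + 1)).f k) ((πs P h1 n X (j + 1)).f k)
      (ιs_πs_f P h1 n X (j + 1) k)).Exact := hS.exact
  haveI : Epi ((πs P h1 n X j).f k) :=
    ((sesS_shortExact P h1 n X j).map_of_exact (eval C _ k)).epi_g
  haveI : Mono ((ιs P h1 n X (j + 1 + 1)).f k) :=
    ((sesS_shortExact P h1 n X (j + 1 + 1)).map_of_exact (eval C _ k)).mono_f
  have := exact_comp ((πs P h1 n X j).f k) _ _ _ hex ((ιs P h1 n X (j + 1 + 1)).f k)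
  exact exact_mk_congr _ _ (Kk_d P h1 n X k j) (Kk_d P h1 n X k (j + 1)) this

lemma Js_isZero (k : ℤ) (i : ℕ) (hi : n < i) : IsZero ((Js P h1 n X i).X k) := by
  obtain ⟨i, rfl⟩ : ∃ i', i = i' + 1 := ⟨i - 1, by omega⟩
  have hi' : ¬ i < n := by omega
  have hi'' : ¬ i + 1 < n := by omega
  haveI := isIso_emb P h1 n hi' (Qs P h1 n X i)
  have hz : IsZero (Qs P h1 n X (i + 1)) := isZero_cokernel_of_epi (ιs P h1 n X i)
  haveI := isIso_emb P h1 n hi'' (Qs P h1 n X (i + 1))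
  have hz' : IsZero (Js P h1 n X (i + 1)) :=
    IsZero.of_iso hz (asIso (ιs P h1 n X (i + 1))).symm
  exact (eval C _ k).map_isZero hz'

lemma Kk_epi (k : ℤ) (hn : 1 ≤ n) : Epi ((Kk P h1 n X k).d (n - 1) n) := by
  obtain ⟨m, rfl⟩ : ∃ m, n = m + 1 := ⟨n - 1, by omega⟩
  have hm : ¬ m + 1 < m + 1 := by omega
  haveI := isIso_emb P h1 (m + 1) hm (Qs P h1 (m + 1) X (m + 1))
  have e1 : Epi ((πs P h1 (m + 1) X m).f k) :=
    ((sesS_shortExact P h1 (m + 1) X m).map_of_exact (eval C _ k)).epi_g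
  have e2 : IsIso ((ιs P h1 (m + 1) X (m + 1)).f k) :=
    (inferInstance : IsIso ((eval C _ k).map (ιs P h1 (m + 1) X (m + 1))))
  have e3 : Epi ((ιs P h1 (m + 1) X (m + 1)).f k) := @IsIso.epi_of_iso _ _ _ _ _ e2
  change Epi ((Kk P h1 (m + 1) X k).d m (m + 1))
  rw [Kk_d]
  exact @epi_comp _ _ _ _ _ _ e1 _ e3

include h2 in
/-- the `n`-th cokernel of the tower has terms in `P` -/
theorem Qs_prop (hn : 1 ≤ n)
    (h3 : ∀ K : CochainComplex C ℕ, (∀ i : ℕ, 1 ≤ i → i ≤ n → K.ExactAt i) →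
      (∀ i : ℕ, n < i → IsZero (K.X i)) →
      Epi (K.d (n - 1) n) → (∀ i : ℕ, i < n → P (K.X i)) → P (K.X n)) (k : ℤ) :
    P ((Qs P h1 n X n).X k) := by
  have h := h3 (Kk P h1 n X k) ?_ (fun i hi => Js_isZero P h1 n X k i hi) (Kk_epi P h1 n X k hn)
    (fun i hi => emb_prop P h1 h2 n hi _ k)
  · have hn' : ¬ n < n := lt_irrefl n
    change P ((emb P h1 n n (Qs P h1 n X n)).1.X k) at h
    rw [emb_of_ge P h1 n hn'] at h
    exact h
  · intro i hi _
    obtain ⟨j, rfl⟩ : ∃ j, i = j + 1 := ⟨i - 1, by omega⟩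
    exact Kk_exactAt P h1 n X k j

include h2 in
theorem exists_res_aux (hn : 1 ≤ n)
    (h3 : ∀ K : CochainComplex C ℕ, (∀ i : ℕ, 1 ≤ i → i ≤ n → K.ExactAt i) →
      (∀ i : ℕ, n < i → IsZero (K.X i)) →
      Epi (K.d (n - 1) n) → (∀ i : ℕ, i < n → P (K.X i)) → P (K.X n)) :
    ∀ (m j : ℕ), j + m = n → ∃ (L : CochainComplex C ℤ) (f : Qs P h1 n X j ⟶ L),
      QuasiIso f ∧ ∀ k, P (L.X k) := by
  intro m
  induction m with
  | zero =>
    intro j hj
    obtain rfl : j = n := by omega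
    exact ⟨_, 𝟙 _, inferInstance, Qs_prop P h1 h2 j X hn h3⟩
  | succ m ih =>
    intro j hj
    obtain ⟨L', q', hq', hL'⟩ := ih (j + 1) (by omega)
    have hj' : j < n := by omega
    exact @step _ _ _ P h2 (sesS P h1 n X j) (sesS_shortExact P h1 n X j)
      (fun k => emb_prop P h1 h2 n hj' _ k) L' q' hq' hL'

include h1 h2 in
/-- **Hartshorne RD I.4.6 (2)**: every complex admits a quasi-isomorphism into a complex with terms
in `P`. -/
theorem exists_res (hn : 1 ≤ n)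
    (h3 : ∀ K : CochainComplex C ℕ, (∀ i : ℕ, 1 ≤ i → i ≤ n → K.ExactAt i) →
      (∀ i : ℕ, n < i → IsZero (K.X i)) →
      Epi (K.d (n - 1) n) → (∀ i : ℕ, i < n → P (K.X i)) → P (K.X n)) :
    ∃ (I : CochainComplex C ℤ) (f : X ⟶ I), QuasiIso f ∧ ∀ k : ℤ, P (I.X k) :=
  exists_res_aux P h1 h2 n X hn h3 n 0 (by omega)

end tower

end Groth.Agent.H3.RDRes
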