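import Mathlib
import Groth.Prelude.Def_PCoh
import Groth.Agent.Lib.Helper3.PCoh.Inf1

/-!
# Infinite resolutions under an abstract cone condition (variant of `Inf1`)
-/

set_option autoImplicit false

open CategoryTheory CategoryTheory.Limits HomologicalComplex CochainComplex HomComplex ZeroObject
open Pretriangulated

universe w v u

namespace Groth.Agent.H3.PCohLib

variable {C : Type u} [Category.{v} C] [Abelian C]


section main

variable (P : ObjectProperty C) [P.IsClosedUnderIsomorphisms] [P.ContainsZero]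
  (hsum : ∀ X Y : C, P X → P Y → P (X ⨯ Y))
  (hql : PCoh.IsQuasiLiftable P)
  {F : CochainComplex C ℤ}
  (hF : ∀ (G : CochainComplex C ℤ) (u : G ⟶ F) (m : ℤ), (∀ i, P (G.X i)) →
    PCoh.IsOfFiniteType P ((mappingCone u).homology m)) {b : ℤ}

include hsum hql hF in
theorem Approx.exists_next₂ (A : Approx P F b) :
    ∃ (A' : Approx P F b) (w : A.G ⟶ A'.G), A'.m = A.m - 1 ∧ w ≫ A'.u = A.u ∧
      (∀ i, Mono (w.f i)) ∧ (∀ i, i ≠ A.m - 1 → IsIso (w.f i)) := by
  have hiso' : ∀ i, A.m - 1 + 1 < i → IsIso (homologyMap A.u i) := fun i hi =>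
    A.hiso i (by omega)
  have hepi' : Epi (homologyMap A.u (A.m - 1 + 1)) := by
    rw [sub_add_cancel]; exact A.hepi
  have hcone := hF A.G A.u (A.m - 1) A.hP
  obtain ⟨E₂, w, u₂, hwu, hwmono, hwiso, -, hq₂, hepi₂, X'', hX'', ⟨eX⟩⟩ :=
    modification' P hql (A.m - 1) A.G F A.u hiso' hepi' hcone
  have hmb := A.hmb
  refine ⟨⟨E₂, u₂, A.m - 1, by omega, ?_, ?_, hq₂, hepi₂⟩, w, rfl, hwu, hwmono, hwiso⟩
  · intro i
    by_cases him : i = A.m - 1
    · subst him
      exact P.prop_of_iso (eX ≪≫ biprod.isoProd _ _).symm (hsum _ _ hX'' (A.hP _))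
    · have := hwiso i him
      exact P.prop_of_iso (asIso (w.f i)) (A.hP i)
  · intro i hi
    have := hwiso i (by omega)
    exact IsZero.of_iso (A.hb i hi) (asIso (w.f i)).symm

/-- the next approximation -/
noncomputable def Approx.next₂ (A : Approx P F b) : Approx P F b :=
  (A.exists_next₂ P hsum hql hF).choose

/-- the map to the next approximation -/
noncomputable def Approx.nextMap₂ (A : Approx P F b) : A.G ⟶ (A.next₂ P hsum hql hF).G :=
  (A.exists_next₂ P hsum hql hF).choose_spec.choose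

theorem Approx.next_spec₂ (A : Approx P F b) :
    (A.next₂ P hsum hql hF).m = A.m - 1 ∧
      A.nextMap₂ P hsum hql hF ≫ (A.next₂ P hsum hql hF).u = A.u ∧
      (∀ i, Mono ((A.nextMap₂ P hsum hql hF).f i)) ∧
      (∀ i, i ≠ A.m - 1 → IsIso ((A.nextMap₂ P hsum hql hF).f i)) :=
  (A.exists_next₂ P hsum hql hF).choose_spec.choose_spec

/-- the sequence of approximations -/
noncomputable def Approx.seq₂ (A : Approx P F b) : ℕ → Approx P F b
  | 0 => A
  | (j + 1) => (Approx.seq₂ A j).next₂ P hsum hql hF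

theorem Approx.seq_m₂ (A : Approx P F b) (j : ℕ) : (A.seq₂ P hsum hql hF j).m = A.m - j := by
  induction j with
  | zero => simp [Approx.seq₂]
  | succ j ih =>
    change ((A.seq₂ P hsum hql hF j).next₂ P hsum hql hF).m = _
    rw [((A.seq₂ P hsum hql hF j).next_spec₂ P hsum hql hF).1, ih]
    push_cast; ring

include hsum hql hF in
/-- the infinite factorisation: an `n`-quasi-isomorphism from a strictly pseudo-coherent complex
to a pseudo-coherent complex factors through a quasi-isomorphism from a strictly pseudo-coherent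
complex -/
theorem factor_general (n : ℤ) (E : CochainComplex C ℤ) (hE : PCoh.IsStrictPCAll P E)
    (u : E ⟶ F) (hiso : ∀ j : ℤ, n < j → IsIso (homologyMap u j))
    (hepi : Epi (homologyMap u n)) :
    ∃ (E' : CochainComplex C ℤ) (v : E ⟶ E') (u' : E' ⟶ F), v ≫ u' = u ∧
      PCoh.IsStrictPCAll P E' ∧ QuasiIso u' ∧ (∀ j : ℤ, Mono (v.f j)) ∧
      (∀ j : ℤ, n ≤ j → IsIso (v.f j)) := by
  obtain ⟨⟨bE, hbE⟩, hPE⟩ := hE
  let A₀ : Approx P F (max bE n) :=
    ⟨E, u, n, by omega, hPE, fun i hi => hbE i (by omega), hiso, hepi⟩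
  let A : ℕ → Approx P F (max bE n) := A₀.seq₂ P hsum hql hF
  have hAm : ∀ j, (A j).m = n - j := fun j => A₀.seq_m₂ P hsum hql hF j
  let G : ℕ → CochainComplex C ℤ := fun j => (A j).G
  let w : ∀ j, G j ⟶ G (j + 1) := fun j => (A j).nextMap₂ P hsum hql hF
  have hspec : ∀ j, w j ≫ (A (j + 1)).u = (A j).u ∧ (∀ i, Mono ((w j).f i)) ∧
      (∀ i, i ≠ (A j).m - 1 → IsIso ((w j).f i)) := fun j =>
    ((A j).next_spec₂ P hsum hql hF).2
  let j₀ : ℤ → ℕ := fun i => (n - i).toNat
  have hj₀ : ∀ i : ℤ, n - i ≤ j₀ i := fun i => Int.self_le_toNat (n - i)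
  have hw : ∀ i j, j₀ i ≤ j → IsIso ((w j).f i) := by
    intro i j hj
    refine (hspec j).2.2 i ?_
    rw [hAm]
    have h1 := hj₀ i
    have h2 : ((j₀ i : ℕ) : ℤ) ≤ j := by exact_mod_cast hj
    omega
  obtain ⟨E', ι, hι, hιiso, hdesc⟩ := exists_colimit_of_eventually_iso G w j₀ hw
  obtain ⟨u', hu'⟩ := hdesc F (fun j => (A j).u) (fun j => (hspec j).1)
  have hmono : ∀ (i : ℤ) (d j : ℕ), j₀ i ≤ j + d → Mono ((ι j).f i) := by
    intro i d
    induction d with
    | zero =>
      intro j hj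
      have := hιiso i j (by omega)
      infer_instance
    | succ d ih =>
      intro j hj
      have h1 := ih (j + 1) (by omega)
      have h2 := (hspec j).2.1 i
      rw [← hι j, HomologicalComplex.comp_f]
      exact mono_comp _ _
  refine ⟨E', ι 0, u', hu' 0, ⟨⟨max bE n, ?_⟩, ?_⟩, ?_, ?_, ?_⟩
  · intro i hi
    have := hιiso i (j₀ i) le_rfl
    exact IsZero.of_iso ((A (j₀ i)).hb i hi) (asIso ((ι (j₀ i)).f i)).symm
  · intro i
    have := hιiso i (j₀ i) le_rfl
    exact P.prop_of_iso (asIso ((ι (j₀ i)).f i)) ((A (j₀ i)).hP i)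
  · rw [quasiIso_iff]
    intro i
    rw [quasiIsoAt_iff_isIso_homologyMap]
    let j : ℕ := j₀ (i - 1) + 1
    have hj1 : j₀ (i - 1) ≤ j := by omega
    have hj2 : j₀ i ≤ j := by
      have : j₀ i ≤ j₀ (i - 1) := Int.toNat_le_toNat (by omega)
      omega
    have hj3 : j₀ (i + 1) ≤ j := by
      have : j₀ (i + 1) ≤ j₀ (i - 1) := Int.toNat_le_toNat (by omega)
      omega
    have h0 := hιiso (i - 1) j hj1
    have h1 := hιiso i j hj2
    have h2 := hιiso (i + 1) j hj3
    have hι_iso : IsIso (homologyMap (ι j) i) :=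
      isIso_homologyMap_of_f (ι j) i inferInstance h1 inferInstance
    have hu_iso : IsIso (homologyMap (A j).u i) := by
      refine (A j).hiso i ?_
      rw [hAm]
      have := hj₀ (i - 1)
      omega
    have hcomp : homologyMap (A j).u i = homologyMap (ι j) i ≫ homologyMap u' i := by
      rw [← homologyMap_comp, hu' j]
    rw [hcomp] at hu_iso
    exact IsIso.of_isIso_comp_left (homologyMap (ι j) i) _
  · intro i
    exact hmono i (j₀ i) 0 (by omega)
  · intro i hi
    exact hιiso i 0 (by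
      have : j₀ i = 0 := Int.toNat_eq_zero.2 (by omega)
      omega)

end main

end Groth.Agent.H3.PCohLib
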