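import Mathlib
import Groth.Prelude.Def_PCoh
import Groth.Agent.Lib.Helper3.PCoh.Serre1

/-!
# Resolutions of bounded above complexes with cohomology in a Serre class
-/

set_option autoImplicit false

open CategoryTheory CategoryTheory.Limits HomologicalComplex CochainComplex HomComplex ZeroObject
open Pretriangulated

universe w v u

namespace Groth.Agent.H3.PCohLib

variable {C : Type u} [Category.{v} C] [Abelian C]

section serre

variable (P : ObjectProperty C) [P.IsSerreClass]

lemma serre_hsum (X Y : C) (hX : P X) (hY : P Y) : P (X ⨯ Y) :=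
  P.prop_of_iso (biprod.isoProd X Y) (P.prop_biprod hX hY)

lemma serre_homology (G : CochainComplex C ℤ) (i : ℤ) (h : P (G.X i)) : P (G.homology i) :=
  P.prop_of_epi (G.homologyπ i) (P.prop_of_mono (G.iCycles i) h)

/-- the cone condition for complexes with cohomology in a Serre class -/
theorem serre_cone {F : CochainComplex C ℤ} (hF : ∀ i, P (F.homology i))
    (G : CochainComplex C ℤ) (u : G ⟶ F) (m : ℤ) (hG : ∀ i, P (G.X i)) :
    PCoh.IsOfFiniteType P ((mappingCone u).homology m) := by
  letI := HasDerivedCategory.standard C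
  have hT : DerivedCategory.Q.mapTriangle.obj (mappingCone.triangle u) ∈
      Pretriangulated.distinguishedTriangles := by
    rw [DerivedCategory.mem_distTriang_iff]
    exact ⟨_, _, u, ⟨Iso.refl _⟩⟩
  have e3 := CochainComplex.homologyMap_exact₃_of_distTriang _ hT m (m + 1) rfl
  have h : P ((mappingCone u).homology m) :=
    P.prop_X₂_of_exact e3 (hF m) (serre_homology P G (m + 1) (hG _))
  exact ⟨_, 𝟙 _, h, inferInstance⟩

variable (hlift : ∀ (X Y : C) (π : X ⟶ Y), Epi π → P Y →
  ∃ (X' : C) (i : X' ⟶ X), Mono i ∧ P X' ∧ Epi (i ≫ π))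

include hlift in
lemma serre_hql : PCoh.IsQuasiLiftable P := by
  intro E F u hu hF
  obtain ⟨X', i, -, hX', hepi⟩ := hlift E F u hu hF
  exact ⟨X', i, hX', hepi⟩

include hlift in
/-- **Resolution**: a complex with cohomology in the Serre class `P`, acyclic above `b`, receives a
quasi-isomorphism from a complex with terms in `P` vanishing above `b`. -/
theorem serre_exists_res (X : CochainComplex C ℤ) (hX : ∀ i, P (X.homology i)) (b : ℤ)
    (hb : ∀ i, b < i → IsZero (X.homology i)) :
    ∃ (Y : CochainComplex C ℤ) (v : Y ⟶ X), (∀ i, P (Y.X i)) ∧ (∀ i, b < i → IsZero (Y.X i)) ∧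
      QuasiIso v := by
  have hz : ∀ i, IsZero ((0 : CochainComplex C ℤ).X i) := fun i =>
    Functor.map_isZero (HomologicalComplex.eval C (ComplexShape.up ℤ) i) (isZero_zero _)
  have hz' : ∀ i, IsZero ((0 : CochainComplex C ℤ).homology i) := fun i =>
    isZero_homology_of_isZero_X _ i (hz i)
  obtain ⟨E', v, u', -, hE', hu', -, hviso⟩ := factor_general P (serre_hsum P) (serre_hql P hlift)
    (serre_cone P hX) (b + 1) 0
    ⟨⟨0, fun i _ => hz i⟩, fun i => P.prop_of_isZero (hz i)⟩ 0
    (fun i hi => ⟨0, (hz' i).eq_of_src _ _, (hb i (by omega)).eq_of_src _ _⟩)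
    (IsZero.epi (hb (b + 1) (by omega)) _)
  refine ⟨E', u', hE'.2, fun i hi => ?_, hu'⟩
  have := hviso i (by omega)
  exact IsZero.of_iso (hz i) (asIso (v.f i)).symm

end serre

end Groth.Agent.H3.PCohLib
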