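import Mathlib
import Groth.Prelude.Def_PCoh
import Groth.Agent.Lib.Helper3.PCoh.Serre2
import Groth.Agent.Lib.Helper3.PCoh.NPC

/-!
# `D⁻(P) ≃ D⁻_P(A)` for a Serre class with the lifting property
-/

set_option autoImplicit false

open CategoryTheory CategoryTheory.Limits HomologicalComplex CochainComplex HomComplex ZeroObject
open Pretriangulated

universe w w' v u

namespace Groth.Agent.H3.PCohLib

namespace Serre

variable {A : Type u} [Category.{v} A] [Abelian A]
  (P : ObjectProperty A) [P.IsSerreClass] [P.IsClosedUnderKernels] [P.IsClosedUnderCokernels]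
  [P.IsClosedUnderFiniteProducts]

/-- lift a complex with terms in `P` to a complex in the full subcategory -/
@[simps]
def liftCx (Y : CochainComplex A ℤ) (hY : ∀ i, P (Y.X i)) : CochainComplex P.FullSubcategory ℤ where
  X i := ⟨Y.X i, hY i⟩
  d i j := ObjectProperty.homMk (Y.d i j)
  shape i j h := by
    apply ObjectProperty.hom_ext
    exact Y.shape i j h
  d_comp_d' i j k _ _ := by
    apply ObjectProperty.hom_ext
    simp

/-- the lift maps to the original complex -/
def liftIso (Y : CochainComplex A ℤ) (hY : ∀ i, P (Y.X i)) :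
    (P.ι.mapHomologicalComplex (ComplexShape.up ℤ)).obj (liftCx P Y hY) ≅ Y :=
  Hom.isoOfComponents (fun _ => Iso.refl _) (by
    intro i j _
    exact (Category.id_comp _).trans (Category.comp_id _).symm)

section derived

variable [HasDerivedCategory.{w} A] [HasDerivedCategory.{w'} P.FullSubcategory]
  [PreservesFiniteLimits P.ι] [PreservesFiniteColimits P.ι]

/-- homology of the image complex -/
noncomputable def homologyιIso (M : CochainComplex P.FullSubcategory ℤ) (i : ℤ) :
    ((P.ι.mapHomologicalComplex (ComplexShape.up ℤ)).obj M).homology i ≅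
      P.ι.obj (M.homology i) :=
  (M.sc i).mapHomologyIso P.ι

lemma prop_homology_ι (M : CochainComplex P.FullSubcategory ℤ) (i : ℤ) :
    P (((P.ι.mapHomologicalComplex (ComplexShape.up ℤ)).obj M).homology i) :=
  P.prop_of_iso (homologyιIso P M i).symm (M.homology i).property

lemma isZero_of_isZero_ι (X : P.FullSubcategory) (h : IsZero (P.ι.obj X)) : IsZero X := by
  rw [IsZero.iff_id_eq_zero] at h ⊢
  apply P.ι.map_injective
  rw [P.ι.map_id, h, P.ι.map_zero]

lemma quasiIso_of_ι {M N : CochainComplex P.FullSubcategory ℤ} (f : M ⟶ N)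
    (h : QuasiIso ((P.ι.mapHomologicalComplex (ComplexShape.up ℤ)).map f)) : QuasiIso f := by
  have : P.ι.ReflectsIsomorphisms := inferInstance
  exact (HomologicalComplex.quasiIso_map_iff_of_preservesHomology f P.ι).1 h

theorem map_Q_map {X Y : CochainComplex P.FullSubcategory ℤ} (f : X ⟶ Y) :
    P.ι.mapDerivedCategory.map (DerivedCategory.Q.map f) =
      P.ι.mapDerivedCategoryFactors.hom.app X ≫
        DerivedCategory.Q.map ((P.ι.mapHomologicalComplex (ComplexShape.up ℤ)).map f) ≫
          P.ι.mapDerivedCategoryFactors.inv.app Y := by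
  have := P.ι.mapDerivedCategoryFactors_hom_naturality f
  rw [← Category.assoc, ← this, Category.assoc, Iso.hom_inv_id_app]
  exact (Category.comp_id _).symm

variable (hlift : ∀ (X Y : A) (π : X ⟶ Y), Epi π → P Y →
  ∃ (X' : A) (i : X' ⟶ X), Mono i ∧ P X' ∧ Epi (i ≫ π))

include hlift in
theorem surj_Q (M₀ N₀ : CochainComplex P.FullSubcategory ℤ) (b : ℤ)
    (hM : ∀ i, b < i → IsZero (M₀.homology i))
    (ψ : P.ι.mapDerivedCategory.obj (DerivedCategory.Q.obj M₀) ⟶
      P.ι.mapDerivedCategory.obj (DerivedCategory.Q.obj N₀)) :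
    ∃ φ : DerivedCategory.Q.obj M₀ ⟶ DerivedCategory.Q.obj N₀,
      P.ι.mapDerivedCategory.map φ = ψ := by
  obtain ⟨Z, s, hs, g, hψ'⟩ := DerivedCategory.right_fac
    (P.ι.mapDerivedCategoryFactors.inv.app M₀ ≫ ψ ≫ P.ι.mapDerivedCategoryFactors.hom.app N₀)
  have hs' : QuasiIso s := (DerivedCategory.isIso_Q_map_iff_quasiIso A s).1 hs
  have hZ : ∀ i, P (Z.homology i) := fun i =>
    P.prop_of_iso (asIso (homologyMap s i)).symm (prop_homology_ι P M₀ i)
  have hZb : ∀ i, b < i → IsZero (Z.homology i) := fun i hi =>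
    IsZero.of_iso (Functor.map_isZero P.ι (hM i hi))
      (asIso (homologyMap s i) ≪≫ homologyιIso P M₀ i)
  obtain ⟨Y, t, hY, -, ht⟩ := serre_exists_res P hlift Z hZ b hZb
  obtain ⟨s', hs'⟩ := (P.ι.mapHomologicalComplex (ComplexShape.up ℤ)).map_surjective
    ((liftIso P Y hY).hom ≫ t ≫ s)
  obtain ⟨g', hg'⟩ := (P.ι.mapHomologicalComplex (ComplexShape.up ℤ)).map_surjective
    ((liftIso P Y hY).hom ≫ t ≫ g)
  have hqs : QuasiIso s' := quasiIso_of_ι P s' (by rw [hs']; infer_instance)
  refine ⟨inv (DerivedCategory.Q.map s') ≫ DerivedCategory.Q.map g', ?_⟩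
  have hψ : ψ = P.ι.mapDerivedCategoryFactors.hom.app M₀ ≫
      (inv (DerivedCategory.Q.map s) ≫ DerivedCategory.Q.map g) ≫
        P.ι.mapDerivedCategoryFactors.inv.app N₀ := by
    rw [← hψ']; simp
  rw [← cancel_epi (P.ι.mapDerivedCategory.map (DerivedCategory.Q.map s')), ← Functor.map_comp,
    IsIso.hom_inv_id_assoc, map_Q_map, map_Q_map, hs', hg', hψ]
  simp

include hlift in
theorem surj (M N : DerivedCategory P.FullSubcategory) (b : ℤ) (hM : M.IsLE b)
    (ψ : P.ι.mapDerivedCategory.obj M ⟶ P.ι.mapDerivedCategory.obj N) :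
    ∃ φ : M ⟶ N, P.ι.mapDerivedCategory.map φ = ψ := by
  let eM := DerivedCategory.Q.objObjPreimageIso M
  let eN := DerivedCategory.Q.objObjPreimageIso N
  have hM₀ : ∀ i, b < i → IsZero ((DerivedCategory.Q.objPreimage M).homology i) := fun i hi =>
    IsZero.of_iso ((DerivedCategory.isLE_iff M b).1 hM i hi)
      ((homIso _ i).symm ≪≫ (DerivedCategory.homologyFunctor _ i).mapIso eM)
  obtain ⟨φ₀, hφ₀⟩ := surj_Q P hlift _ _ b hM₀
    (P.ι.mapDerivedCategory.map eM.hom ≫ ψ ≫ P.ι.mapDerivedCategory.map eN.inv)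
  refine ⟨eM.inv ≫ φ₀ ≫ eN.hom, ?_⟩
  have h1 : P.ι.mapDerivedCategory.map eM.inv ≫ P.ι.mapDerivedCategory.map eM.hom = 𝟙 _ := by
    rw [← Functor.map_comp, Iso.inv_hom_id, CategoryTheory.Functor.map_id]
  have h2 : P.ι.mapDerivedCategory.map eN.inv ≫ P.ι.mapDerivedCategory.map eN.hom = 𝟙 _ := by
    rw [← Functor.map_comp, Iso.inv_hom_id, CategoryTheory.Functor.map_id]
  rw [Functor.map_comp, Functor.map_comp, hφ₀, Category.assoc, Category.assoc, h2,
    Category.comp_id, ← Category.assoc, h1, Category.id_comp]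

theorem isZero_of_forall_isZero_homology (M : DerivedCategory P.FullSubcategory)
    (h : ∀ n, IsZero ((DerivedCategory.homologyFunctor _ n).obj M)) : IsZero M := by
  have : IsIso (0 : M ⟶ 0) := by
    rw [DerivedCategory.isIso_iff]
    intro n
    exact ⟨⟨0, (h n).eq_of_src _ _,
      (Functor.map_isZero _ (isZero_zero _)).eq_of_src _ _⟩⟩
  exact IsZero.of_iso (isZero_zero _) (asIso (0 : M ⟶ 0))

theorem isZero_of_isZero_map (M : DerivedCategory P.FullSubcategory)
    (h : IsZero (P.ι.mapDerivedCategory.obj M)) : IsZero M := by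
  let eM := DerivedCategory.Q.objObjPreimageIso M
  apply isZero_of_forall_isZero_homology
  intro n
  have h1 : IsZero (DerivedCategory.Q.obj ((P.ι.mapHomologicalComplex (ComplexShape.up ℤ)).obj
      (DerivedCategory.Q.objPreimage M))) :=
    IsZero.of_iso h ((P.ι.mapDerivedCategoryFactors.app _).symm ≪≫
      P.ι.mapDerivedCategory.mapIso eM)
  have h2 : IsZero (((P.ι.mapHomologicalComplex (ComplexShape.up ℤ)).obj
      (DerivedCategory.Q.objPreimage M)).homology n) :=
    IsZero.of_iso (Functor.map_isZero (DerivedCategory.homologyFunctor _ n) h1) (homIso _ n).symm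
  have h3 : IsZero ((DerivedCategory.Q.objPreimage M).homology n) :=
    isZero_of_isZero_ι P _ (IsZero.of_iso h2 (homologyιIso P _ n).symm)
  exact IsZero.of_iso h3 ((DerivedCategory.homologyFunctor _ n).mapIso eM.symm ≪≫ homIso _ n)

theorem isIso_of_isIso_map {M N : DerivedCategory P.FullSubcategory} (e : M ⟶ N)
    (h : IsIso (P.ι.mapDerivedCategory.map e)) : IsIso e := by
  obtain ⟨Z, g, h', hT⟩ := distinguished_cocone_triangle e
  refine (Triangle.isZero₃_iff_isIso₁ _ hT).1 ?_
  apply isZero_of_isZero_map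
  exact (Triangle.isZero₃_iff_isIso₁ _ (P.ι.mapDerivedCategory.map_distinguished _ hT)).2 h

include hlift in
theorem inj (M N : DerivedCategory P.FullSubcategory) (b : ℤ) (hM : M.IsLE b) (hN : N.IsLE b)
    (φ : M ⟶ N) (h : P.ι.mapDerivedCategory.map φ = 0) : φ = 0 := by
  obtain ⟨Z, g, h', hT⟩ := distinguished_cocone_triangle φ
  have hT' := P.ι.mapDerivedCategory.map_distinguished _ hT
  have hmono : Mono (P.ι.mapDerivedCategory.map g) := Triangle.mono₂ _ hT' h
  have hsplit : IsSplitMono (P.ι.mapDerivedCategory.map g) := isSplitMono_of_mono _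
  have hM1 : (M⟦(1 : ℤ)⟧).IsLE b := by
    have : (M⟦(1 : ℤ)⟧).IsLE (b - 1) := DerivedCategory.TStructure.t.isLE_shift M b 1 (b - 1)
    exact DerivedCategory.TStructure.t.isLE_of_le _ (b - 1) b
  have hZ : Z.IsLE b :=
    DerivedCategory.TStructure.t.isLE₂ _ (rot_of_distTriang _ hT) b hN hM1
  obtain ⟨ρ, hρ⟩ := surj P hlift Z N b hZ (retraction (P.ι.mapDerivedCategory.map g))
  have hiso : IsIso (g ≫ ρ) := by
    apply isIso_of_isIso_map P
    rw [Functor.map_comp, hρ, IsSplitMono.id]
    infer_instance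
  have : Mono g := mono_of_mono g ρ
  exact Triangle.mor₁_eq_zero_of_mono₂ _ hT this

include hlift in
theorem main :
    (∀ (M N : DerivedCategory P.FullSubcategory) (b : ℤ), M.IsLE b → N.IsLE b →
      Function.Bijective (fun φ : M ⟶ N => P.ι.mapDerivedCategory.map φ)) ∧
    ∀ (K : DerivedCategory A) (b : ℤ), K.IsLE b →
      (∀ n : ℤ, P ((DerivedCategory.homologyFunctor A n).obj K)) →
      ∃ M : DerivedCategory P.FullSubcategory, M.IsLE b ∧
        Nonempty (P.ι.mapDerivedCategory.obj M ≅ K) := by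
  refine ⟨fun M N b hM hN => ⟨?_, fun ψ => surj P hlift M N b hM ψ⟩, ?_⟩
  · intro φ₁ φ₂ h
    have := inj P hlift M N b hM hN (φ₁ - φ₂) (by
      rw [Functor.map_sub]; exact sub_eq_zero.2 h)
    exact sub_eq_zero.1 this
  · intro K b hK hP
    let eX := DerivedCategory.Q.objObjPreimageIso K
    have hX : ∀ i, P ((DerivedCategory.Q.objPreimage K).homology i) := fun i =>
      P.prop_of_iso ((DerivedCategory.homologyFunctor _ i).mapIso eX.symm ≪≫ homIso _ i) (hP i)
    have hXb : ∀ i, b < i → IsZero ((DerivedCategory.Q.objPreimage K).homology i) := fun i hi =>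
      IsZero.of_iso ((DerivedCategory.isLE_iff K b).1 hK i hi)
        ((homIso _ i).symm ≪≫ (DerivedCategory.homologyFunctor _ i).mapIso eX)
    obtain ⟨Y, v, hY, hYb, hv⟩ := serre_exists_res P hlift _ hX b hXb
    refine ⟨DerivedCategory.Q.obj (liftCx P Y hY), ?_, ⟨?_⟩⟩
    · have : (liftCx P Y hY).IsStrictlyLE b := by
        rw [CochainComplex.isStrictlyLE_iff]
        intro i hi
        exact isZero_of_isZero_ι P _ (hYb i hi)
      infer_instance
    · exact P.ι.mapDerivedCategoryFactors.app _ ≪≫ DerivedCategory.Q.mapIso (liftIso P Y hY) ≪≫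
        asIso (DerivedCategory.Q.map v) ≪≫ eX

end derived

end Serre

end Groth.Agent.H3.PCohLib
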