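import Mathlib

/-!
# The lemma on way-out functors
-/

set_option autoImplicit false

open CategoryTheory CategoryTheory.Limits Pretriangulated ZeroObject

universe w w' v v' u u'

namespace Groth.Agent.H3.WayOut

section general

variable {C : Type u} {D : Type u'} [Category.{v} C] [Category.{v'} D]
  [HasZeroObject C] [HasZeroObject D] [Preadditive C] [Preadditive D]
  [HasShift C ℤ] [HasShift D ℤ]
  [∀ n : ℤ, (shiftFunctor C n).Additive] [∀ n : ℤ, (shiftFunctor D n).Additive]
  [Pretriangulated C] [Pretriangulated D]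
  (F G : C ⥤ D) [F.CommShift ℤ] [G.CommShift ℤ] [F.IsTriangulated] [G.IsTriangulated]
  (η : F ⟶ G) [NatTrans.CommShift η ℤ]

omit [HasZeroObject C] [HasZeroObject D] [Preadditive C] [Preadditive D]
  [HasShift C ℤ] [HasShift D ℤ]
  [∀ n : ℤ, (shiftFunctor C n).Additive] [∀ n : ℤ, (shiftFunctor D n).Additive]
  [Pretriangulated C] [Pretriangulated D] [F.CommShift ℤ] [G.CommShift ℤ] [F.IsTriangulated]
  [G.IsTriangulated] [NatTrans.CommShift η ℤ] in
lemma isIso_app_of_iso {X Y : C} (e : X ≅ Y) (h : IsIso (η.app X)) : IsIso (η.app Y) := by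
  have : η.app Y = F.map e.inv ≫ η.app X ≫ G.map e.hom := by
    rw [← η.naturality, ← Category.assoc, ← F.map_comp]; simp
  rw [this]; infer_instance

omit [HasZeroObject C] [HasZeroObject D] [Preadditive C] [Preadditive D]
  [∀ n : ℤ, (shiftFunctor C n).Additive] [∀ n : ℤ, (shiftFunctor D n).Additive]
  [Pretriangulated C] [Pretriangulated D] [F.IsTriangulated] [G.IsTriangulated] in
lemma isIso_app_shift (X : C) (n : ℤ) (h : IsIso (η.app X)) : IsIso (η.app (X⟦n⟧)) := by
  have h1 := NatTrans.shift_app_comm η n X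
  have : η.app (X⟦n⟧) =
      (F.commShiftIso n).hom.app X ≫ (η.app X)⟦n⟧' ≫ (G.commShiftIso n).inv.app X := by
    rw [← Category.assoc, h1]; simp
  rw [this]; infer_instance

lemma isIso_app₂ (T : Triangle C) (hT : T ∈ distTriang C) (h₁ : IsIso (η.app T.obj₁))
    (h₃ : IsIso (η.app T.obj₃)) : IsIso (η.app T.obj₂) := by
  let φ : F.mapTriangle.obj T ⟶ G.mapTriangle.obj T :=
    { hom₁ := η.app _
      hom₂ := η.app _
      hom₃ := η.app _
      comm₁ := η.naturality T.mor₁
      comm₂ := η.naturality T.mor₂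
      comm₃ := by
        change (F.map T.mor₃ ≫ (F.commShiftIso (1 : ℤ)).hom.app T.obj₁) ≫ (η.app T.obj₁)⟦(1 : ℤ)⟧' =
          η.app T.obj₃ ≫ G.map T.mor₃ ≫ (G.commShiftIso (1 : ℤ)).hom.app T.obj₁
        simp only [Category.assoc, NatTrans.shift_app_comm η (1 : ℤ) T.obj₁,
          NatTrans.naturality_assoc] }
  exact isIso₂_of_isIso₁₃ φ (F.map_distinguished _ hT) (G.map_distinguished _ hT) h₁ h₃

lemma isIso_app_of_isZero (X : C) (hX : IsZero X) : IsIso (η.app X) :=
  ⟨⟨0, (F.map_isZero hX).eq_of_src _ _, (G.map_isZero hX).eq_of_src _ _⟩⟩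

end general

section derived

variable {A : Type u} [Category.{v} A] [Abelian A] [HasDerivedCategory.{w} A]

open DerivedCategory

/-- `H^j(mor₁)` is an isomorphism if `obj₃` is `≥ j + 1` -/
lemma isIso_homology_map_mor₁ (T : Triangle (DerivedCategory A)) (hT : T ∈ distTriang _) (j : ℤ)
    (h : T.obj₃.IsGE (j + 1)) : IsIso ((homologyFunctor A j).map T.mor₁) := by
  have hz1 : IsZero ((homologyFunctor A j).obj T.obj₃) :=
    T.obj₃.isZero_of_isGE (j + 1) j (by omega)
  have hz0 : IsZero ((homologyFunctor A (j - 1)).obj T.obj₃) :=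
    T.obj₃.isZero_of_isGE (j + 1) (j - 1) (by omega)
  have hepi : Epi ((homologyFunctor A j).map T.mor₁) :=
    (HomologySequence.epi_homologyMap_mor₁_iff T hT j).2 (hz1.eq_of_tgt _ _)
  have hmono : Mono ((homologyFunctor A j).map T.mor₁) :=
    (HomologySequence.mono_homologyMap_mor₁_iff T hT (j - 1) j (by omega)).2 (hz0.eq_of_src _ _)
  exact isIso_of_mono_of_epi _

/-- `H^j(mor₂)` is an isomorphism if `obj₁` is `≤ j - 1` -/
lemma isIso_homology_map_mor₂ (T : Triangle (DerivedCategory A)) (hT : T ∈ distTriang _) (j : ℤ)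
    (h : T.obj₁.IsLE (j - 1)) : IsIso ((homologyFunctor A j).map T.mor₂) := by
  have hz0 : IsZero ((homologyFunctor A j).obj T.obj₁) :=
    T.obj₁.isZero_of_isLE (j - 1) j (by omega)
  have hz1 : IsZero ((homologyFunctor A (j + 1)).obj T.obj₁) :=
    T.obj₁.isZero_of_isLE (j - 1) (j + 1) (by omega)
  have hepi : Epi ((homologyFunctor A j).map T.mor₂) :=
    (HomologySequence.epi_homologyMap_mor₂_iff T hT j (j + 1) rfl).2 (hz1.eq_of_tgt _ _)
  have hmono : Mono ((homologyFunctor A j).map T.mor₂) :=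
    (HomologySequence.mono_homologyMap_mor₂_iff T hT j).2 (hz0.eq_of_src _ _)
  exact isIso_of_mono_of_epi _

variable (P : ObjectProperty A) [P.IsClosedUnderIsomorphisms]

/-- cohomology of the truncation `τ_{<n}` -/
lemma prop_homology_truncLT (hP0 : ∀ Z : A, IsZero Z → P Z) (X : DerivedCategory A)
    (hX : ∀ i : ℤ, P ((homologyFunctor A i).obj X)) (n i : ℤ) :
    P ((homologyFunctor A i).obj ((TStructure.t.truncLT n).obj X)) := by
  by_cases hi : i < n
  · have : IsIso ((homologyFunctor A i).map ((TStructure.t.triangleLTGE n).obj X).mor₁) :=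
      isIso_homology_map_mor₁ _ (TStructure.t.triangleLTGE_distinguished n X) i
        (TStructure.t.isGE_of_ge _ (i + 1) n (by omega))
    exact P.prop_of_iso
      (asIso ((homologyFunctor A i).map ((TStructure.t.triangleLTGE n).obj X).mor₁)).symm (hX i)
  · apply hP0
    exact ((TStructure.t.truncLT n).obj X).isZero_of_isLE (n - 1) i (by omega)

/-- cohomology of the truncation `τ_{≥n}` -/
lemma prop_homology_truncGE (hP0 : ∀ Z : A, IsZero Z → P Z) (X : DerivedCategory A)
    (hX : ∀ i : ℤ, P ((homologyFunctor A i).obj X)) (n i : ℤ) :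
    P ((homologyFunctor A i).obj ((TStructure.t.truncGE n).obj X)) := by
  by_cases hi : n ≤ i
  · have h : IsIso ((homologyFunctor A i).map ((TStructure.t.triangleLTGE n).obj X).mor₂) :=
      isIso_homology_map_mor₂ _ (TStructure.t.triangleLTGE_distinguished n X) i
        (TStructure.t.isLE_of_le _ (n - 1) (i - 1) (by omega))
    exact P.prop_of_iso (@asIso _ _ _ _ _ h) (hX i)
  · apply hP0
    exact ((TStructure.t.truncGE n).obj X).isZero_of_isGE n i (by omega)

variable {B : Type u'} [Category.{v'} B] [Abelian B] [HasDerivedCategory.{w'} B]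
  (F G : DerivedCategory A ⥤ DerivedCategory B) [F.CommShift ℤ] [G.CommShift ℤ]
  [F.IsTriangulated] [G.IsTriangulated] (η : F ⟶ G) [NatTrans.CommShift η ℤ]
  (hη : ∀ X : A, P X → IsIso (η.app ((DerivedCategory.singleFunctor A 0).obj X)))

include hη in
/-- objects concentrated in a single degree -/
lemma isIso_app_of_single (X : DerivedCategory A) (n : ℤ) (h1 : X.IsGE n) (h2 : X.IsLE n)
    (hX : P ((homologyFunctor A n).obj X)) : IsIso (η.app X) := by
  obtain ⟨Y, ⟨e⟩⟩ := exists_iso_singleFunctor_obj_of_isGE_of_isLE X n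
  have hY : P Y := P.prop_of_iso ((homologyFunctor A n).mapIso e ≪≫
    (homologyFunctorFactors A n).app _ ≪≫
      HomologicalComplex.singleObjHomologySelfIso (ComplexShape.up ℤ) n Y) hX
  have e' : ((singleFunctor A 0).obj Y)⟦-n⟧ ≅ X :=
    ((singleFunctors A).shiftIso (-n) n 0 (by omega)).app Y ≪≫ e.symm
  exact isIso_app_of_iso F G η e' (isIso_app_shift F G η _ (-n) (hη Y hY))

include hη in
theorem isIso_app_of_bounded_aux (hP0 : ∀ Z : A, IsZero Z → P Z) :
    ∀ (n : ℕ) (X : DerivedCategory A) (a b : ℤ), X.IsGE a → X.IsLE b → b - a + 1 ≤ n →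
      (∀ i : ℤ, P ((homologyFunctor A i).obj X)) → IsIso (η.app X) := by
  intro n
  induction n with
  | zero =>
    intro X a b ha hb hn hX
    exact isIso_app_of_isZero F G η X (TStructure.t.isZero X b a (by omega))
  | succ n ih =>
    intro X a b ha hb hn hX
    have hT := TStructure.t.triangleLTGE_distinguished b X
    apply isIso_app₂ F G η _ hT
    · -- `τ_{<b} X`
      refine ih ((TStructure.t.truncLT b).obj X) a (b - 1) ?_ ?_ (by omega)
        (prop_homology_truncLT P hP0 X hX b)
      · exact inferInstanceAs (TStructure.t.IsGE ((TStructure.t.truncLT b).obj X) a)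
      · exact inferInstanceAs (TStructure.t.IsLE ((TStructure.t.truncLT b).obj X) (b - 1))
    · -- `τ_{≥b} X`
      refine isIso_app_of_single P F G η hη ((TStructure.t.truncGE b).obj X) b ?_ ?_
        (prop_homology_truncGE P hP0 X hX b b)
      · exact inferInstanceAs (TStructure.t.IsGE ((TStructure.t.truncGE b).obj X) b)
      · exact inferInstanceAs (TStructure.t.IsLE ((TStructure.t.truncGE b).obj X) b)

include hη in
theorem isIso_app_of_bounded (X : DerivedCategory A) (a b : ℤ) [X.IsGE a] [X.IsLE b]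
    (hX : ∀ i : ℤ, P ((DerivedCategory.homologyFunctor A i).obj X)) :
    IsIso (η.app X) := by
  have hP0 : ∀ Z : A, IsZero Z → P Z := fun Z hZ =>
    P.prop_of_iso ((X.isZero_of_isLE b (b + 1) (by omega)).iso hZ) (hX (b + 1))
  exact isIso_app_of_bounded_aux P F G η hη hP0 (b - a + 1).toNat X a b inferInstance
    inferInstance (by omega) hX

omit [F.CommShift ℤ] [G.CommShift ℤ] [F.IsTriangulated] [G.IsTriangulated]
  [NatTrans.CommShift η ℤ] in
lemma isIso_homology_app_of_triangle (T : Triangle (DerivedCategory A)) (j : ℤ)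
    (h1 : IsIso ((homologyFunctor B j).map (F.map T.mor₁)))
    (h2 : IsIso ((homologyFunctor B j).map (G.map T.mor₁)))
    (h3 : IsIso (η.app T.obj₁)) : IsIso ((homologyFunctor B j).map (η.app T.obj₂)) := by
  have hnat := η.naturality T.mor₁
  have hnat' := congrArg (fun f => (homologyFunctor B j).map f) hnat
  simp only [Functor.map_comp] at hnat'
  have : (homologyFunctor B j).map (η.app T.obj₂) =
      inv ((homologyFunctor B j).map (F.map T.mor₁)) ≫
      (homologyFunctor B j).map (η.app T.obj₁) ≫ (homologyFunctor B j).map (G.map T.mor₁) := by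
    rw [IsIso.eq_inv_comp]
    exact hnat'
  rw [this]
  infer_instance

include hη in
theorem isIso_app_of_isGE
    (hF : ∀ n₁ : ℤ, ∃ n₂ : ℤ, ∀ Y : DerivedCategory A, Y.IsGE n₂ → (F.obj Y).IsGE n₁)
    (hG : ∀ n₁ : ℤ, ∃ n₂ : ℤ, ∀ Y : DerivedCategory A, Y.IsGE n₂ → (G.obj Y).IsGE n₁)
    (X : DerivedCategory A) (a : ℤ) [X.IsGE a]
    (hX : ∀ i : ℤ, P ((DerivedCategory.homologyFunctor A i).obj X)) :
    IsIso (η.app X) := by
  have hP0 : ∀ Z : A, IsZero Z → P Z := fun Z hZ =>
    P.prop_of_iso ((X.isZero_of_isGE a (a - 1) (by omega)).iso hZ) (hX (a - 1))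
  rw [DerivedCategory.isIso_iff]
  intro j
  obtain ⟨n₂, hn₂⟩ := hF (j + 1)
  obtain ⟨n₂', hn₂'⟩ := hG (j + 1)
  have hT := TStructure.t.triangleLTGE_distinguished (max n₂ n₂') X
  have hge : TStructure.t.IsGE ((TStructure.t.truncGE (max n₂ n₂')).obj X) (max n₂ n₂') :=
    inferInstance
  have h1 : IsIso ((homologyFunctor B j).map
      (F.map ((TStructure.t.triangleLTGE (max n₂ n₂')).obj X).mor₁)) :=
    isIso_homology_map_mor₁ (F.mapTriangle.obj _) (F.map_distinguished _ hT) j
      (hn₂ _ (TStructure.t.isGE_of_ge _ n₂ (max n₂ n₂') (le_max_left _ _)))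
  have h2 : IsIso ((homologyFunctor B j).map
      (G.map ((TStructure.t.triangleLTGE (max n₂ n₂')).obj X).mor₁)) :=
    isIso_homology_map_mor₁ (G.mapTriangle.obj _) (G.map_distinguished _ hT) j
      (hn₂' _ (TStructure.t.isGE_of_ge _ n₂' (max n₂ n₂') (le_max_right _ _)))
  have h3 : IsIso (η.app ((TStructure.t.truncLT (max n₂ n₂')).obj X)) := by
    have i1 : ((TStructure.t.truncLT (max n₂ n₂')).obj X).IsGE a :=
      inferInstanceAs (TStructure.t.IsGE ((TStructure.t.truncLT (max n₂ n₂')).obj X) a)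
    have i2 : ((TStructure.t.truncLT (max n₂ n₂')).obj X).IsLE (max n₂ n₂' - 1) :=
      inferInstanceAs (TStructure.t.IsLE ((TStructure.t.truncLT (max n₂ n₂')).obj X)
        (max n₂ n₂' - 1))
    exact isIso_app_of_bounded P F G η hη _ a (max n₂ n₂' - 1)
      (prop_homology_truncLT P hP0 X hX _)
  exact isIso_homology_app_of_triangle F G η _ j h1 h2 h3

end derived

end Groth.Agent.H3.WayOut
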